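import Cfsg.Agent.QtkePush.Kinds

/-!
# Transport of the facts about a block along an injective homomorphism
-/

set_option autoImplicit false
set_option linter.unusedSectionVars false

namespace Cfsg.Agent.QtkePush

open Subgroup
open scoped commutatorElement

universe u

variable {G G' : Type u} [Group G] [Group G'] [Finite G] [Finite G'] {f : G →* G'}
  (hf : Function.Injective f) {R E W : Subgroup G}

include hf

theorem mem_map' {H : Subgroup G} {x : G} : f x ∈ H.map f ↔ x ∈ H := Subgroup.mem_map_iff_mem hf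

theorem map_normalizer' {H : Subgroup G} {x : G} :
    f x ∈ normalizer (H.map f : Set G') ↔ x ∈ normalizer (H : Set G) := by
  constructor
  · intro h
    refine mem_normalizer_iff.2 fun y => ?_
    rw [← mem_map' hf (H := H), mem_normalizer_iff.1 h (f y), ← map_inv, ← map_mul, ← map_mul,
      mem_map' hf]
  · exact fun h => Subgroup.le_normalizer_map f ⟨x, h, rfl⟩

theorem map_centralizer' {H : Subgroup G} {x : G} :
    f x ∈ centralizer (H.map f : Set G') ↔ x ∈ centralizer (H : Set G) := by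
  constructor
  · intro h
    refine mem_centralizer_iff.2 fun y hy => hf ?_
    rw [map_mul, map_mul]
    exact mem_centralizer_iff.1 h _ ⟨y, hy, rfl⟩
  · intro h
    refine mem_centralizer_iff.2 ?_
    rintro _ ⟨y, hy, rfl⟩
    rw [← map_mul, ← map_mul, mem_centralizer_iff.1 h y hy]

theorem map_centralizer_singleton' {x y : G} :
    f y ∈ centralizer ({f x} : Set G') ↔ y ∈ centralizer ({x} : Set G) := by
  rw [mem_centralizer_singleton_iff, mem_centralizer_singleton_iff, ← map_mul, ← map_mul, hf.eq_iff]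

theorem Base.map (h : Base R E W) : Base (R.map f) (E.map f) (W.map f) where
  hWR := Subgroup.map_mono h.hWR
  hWE := Subgroup.map_mono h.hWE
  hEW := (Subgroup.map_mono h.hEW).trans (Subgroup.le_normalizer_map f)
  hRE := (Subgroup.map_mono h.hRE).trans (Subgroup.le_normalizer_map f)
  hRW := (Subgroup.map_mono h.hRW).trans (Subgroup.le_normalizer_map f)
  comm := by
    rintro _ ⟨d, hd, rfl⟩ hdc _ ⟨e, he, rfl⟩
    rw [← map_commutatorElement, mem_map' hf]
    exact h.comm d hd ((map_centralizer' hf).1 hdc) e he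
  ne := fun e => h.ne ((Subgroup.map_eq_bot_iff_of_injective _ hf).1 e)

theorem FixOne.map (h : FixOne R E W) : FixOne (R.map f) (E.map f) (W.map f) where
  bot := by
    refine (eq_bot_iff_forall _).2 ?_
    rintro _ ⟨⟨w, hw, rfl⟩, hwc⟩
    have : w ∈ W ⊓ centralizer (E : Set G) := ⟨hw, (map_centralizer' hf).1 hwc⟩
    rw [h.bot, mem_bot] at this
    rw [this, map_one]
  uniq := by
    rintro _ ⟨a, ha, rfl⟩ _ ⟨b, hb, rfl⟩ ha1 hb1 haR hbR
    rw [h.uniq a ha b hb (fun e => ha1 (by rw [e, map_one])) (fun e => hb1 (by rw [e, map_one]))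
      ((map_centralizer' hf).1 haR) ((map_centralizer' hf).1 hbR)]

theorem Kind.map (h : Kind R E W) : Kind (R.map f) (E.map f) (W.map f) := by
  rcases h with ⟨hc, p, hp, hp2, x, hx, hxp, hxn, w, hw, s, hs, hne⟩ |
    ⟨h1, x, P, hx, h3, hxW, hP, hxP, hfix⟩ | ⟨h1, x, l, m, ha⟩
  · refine Or.inl ⟨?_, p, hp, hp2, f x, ⟨x, hx, rfl⟩, by rw [← map_pow, hxp, map_one], ?_, f w,
      ⟨w, hw, rfl⟩, f s, ?_, ?_⟩
    · intro Y hY hRY hYc hYne hge
      obtain ⟨Y, rfl⟩ : ∃ Z : Subgroup G, Z.map f = Y :=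
        ⟨_, Subgroup.map_comap_eq_self (hY.trans (Subgroup.map_le_range f R))⟩
      have hcW : ∀ {A B : Subgroup G}, A.map f ⊓ centralizer (B.map f : Set G') =
          (A ⊓ centralizer (B : Set G)).map f := fun {A B} => by
        ext y
        constructor
        · rintro ⟨⟨a, ha, rfl⟩, hac⟩
          exact ⟨a, ⟨ha, (map_centralizer' hf).1 hac⟩, rfl⟩
        · rintro ⟨a, ⟨ha, hac⟩, rfl⟩
          exact ⟨⟨a, ha, rfl⟩, (map_centralizer' hf).2 hac⟩
      rw [hcW, hcW, Subgroup.card_map_of_injective hf, Subgroup.card_map_of_injective hf,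
        Subgroup.card_map_of_injective hf, Subgroup.card_map_of_injective hf] at hge
      have hY' : Y ≤ R := (Subgroup.map_le_map_iff_of_injective hf).1 hY
      have hcov := hc Y hY' (fun r hr => (map_normalizer' hf).1 (hRY ⟨r, hr, rfl⟩))
        (fun a ha b hb => hf (by rw [map_mul, map_mul]; exact hYc _ ⟨a, ha, rfl⟩ _ ⟨b, hb, rfl⟩))
        (fun hle => hYne (by
          rintro _ ⟨y, hy, rfl⟩
          exact (map_centralizer' hf).2 (hle hy))) hge
      rintro _ ⟨⟨a, haR, rfl⟩, b, hbE, hab⟩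
      obtain rfl := hf hab
      obtain ⟨y, hy, hys⟩ := hcov b ⟨haR, hbE⟩
      exact ⟨f y, ⟨y, hy, rfl⟩, by rw [← map_inv, ← map_mul]; exact (map_centralizer' hf).2 hys⟩
    · rw [← Subgroup.map_inf _ _ _ hf, map_normalizer' hf]
      exact hxn
    · rw [← Subgroup.map_inf _ _ _ hf]
      exact ⟨s, hs, rfl⟩
    · rw [← map_commutatorElement, ← map_mul, ← map_mul]
      exact fun e => hne (hf e)
  · refine Or.inr (Or.inl ⟨h1.map hf, f x, P.map f, ⟨x, hx, rfl⟩, by rw [← map_pow, h3, map_one],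
      fun hc => hxW ((map_centralizer' hf).1 hc), ?_, (map_normalizer' hf).2 hxP, ?_⟩)
    · rw [← Subgroup.map_inf _ _ _ hf]
      exact Subgroup.map_mono hP
    · rintro _ ⟨⟨w, hw, rfl⟩, hwc⟩
      exact (map_centralizer_singleton' hf).2 (hfix ⟨hw, (map_centralizer' hf).1 hwc⟩)
  · refine Or.inr (Or.inr ⟨h1.map hf, f x, f l, f m, ?_⟩)
    exact
      { xE := ⟨x, ha.xE, rfl⟩
        x3 := by rw [← map_pow, ha.x3, map_one]
        lW := ⟨l, ha.lW, rfl⟩
        mW := ⟨m, ha.mW, rfl⟩
        l1 := fun e => ha.l1 (hf (e.trans (map_one f).symm))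
        m1 := fun e => ha.m1 (hf (e.trans (map_one f).symm))
        lm := fun e => ha.lm (hf e)
        mem := by
          rintro _ ⟨w, hw, rfl⟩
          rcases ha.mem w hw with h | h | h | h <;> simp [h]
        xl := by rw [← map_inv, ← map_mul, ← map_mul, ha.xl]
        xm := by rw [← map_inv, ← map_mul, ← map_mul, ha.xm, map_mul]
        lR := (map_centralizer' hf).2 ha.lR
        gen := by
          rintro _ ⟨e, he, rfl⟩
          obtain ⟨w, hw, k, rfl⟩ := ha.gen e he
          exact ⟨f w, ⟨w, hw, rfl⟩, k, by rw [map_mul, map_pow]⟩ }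

end Cfsg.Agent.QtkePush
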