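import Cfsg.Agent.QtkePush.Member
import Cfsg.Agent.QtkePush.KindMap
import Cfsg.Agent.Fusion.PGroup

/-!
# Three commuting sections

Six images as in `Six` cannot come from linear blocks of degree at least four or from alternating
blocks of degree at least five.
-/

set_option autoImplicit false
set_option linter.unusedSectionVars false
set_option linter.style.haveILetI false

namespace Cfsg.Agent.QtkePush

open Subgroup
open scoped commutatorElement

universe u

variable {G : Type u} [Group G]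

local notation "cj[" g "]" => MulEquiv.toMonoidHom (MulAut.conj g)

/-- Central factors do not change a commutator. -/
theorem commutator_central_mul {c d u v : G} (h₁ : c * u = u * c) (h₂ : c * v = v * c)
    (h₃ : d * u = u * d) (h₄ : d * v = v * d) (h₅ : c * d = d * c) :
    ⁅c * u, d * v⁆ = ⁅u, v⁆ := by
  have e₁ : c * u * (d * v) = c * d * (u * v) := by
    calc c * u * (d * v) = c * (u * d) * v := by group
      _ = c * (d * u) * v := by rw [h₃]
      _ = _ := by group
  have e₂ : d * v * (c * u) = c * d * (v * u) := by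
    calc d * v * (c * u) = d * (v * c) * u := by group
      _ = d * (c * v) * u := by rw [h₂]
      _ = d * c * (v * u) := by group
      _ = _ := by rw [h₅]
  have e₃ : (c * d) * (u * v * (v * u)⁻¹) = (u * v * (v * u)⁻¹) * (c * d) := by
    have hu : Commute (c * d) u := Commute.mul_left (a := c) (b := d) (c := u) h₁ h₃
    have hv : Commute (c * d) v := Commute.mul_left (a := c) (b := d) (c := v) h₂ h₄
    exact ((hu.mul_right hv).mul_right ((hv.mul_right hu).inv_right)).eq
  calc ⁅c * u, d * v⁆ = c * u * (d * v) * (d * v * (c * u))⁻¹ := by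
        rw [commutatorElement_def]; group
    _ = c * d * (u * v * (v * u)⁻¹) * (c * d)⁻¹ := by rw [e₁, e₂]; group
    _ = ⁅u, v⁆ := by rw [e₃, commutatorElement_def]; group

variable [Finite G]

theorem Base.img {M R E W : Subgroup G} (hb : Base R E W) (w : Tw M R W) {h : G} (hh : h ∈ M) :
    Base R (QtkePush.img E h) (QtkePush.img W h) := by
  have := hb.map (f := cj[h]) (MulAut.conj h).injective
  rwa [show R.map cj[h] = R from mem_normalizer_iff_map_conj_eq.1 (w.norm_R hh)] at this

/-- Conjugation of an element of a module image by an element of an apart block. -/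
theorem exists_shift {M R E W : Subgroup G} (hb : Base R E W) (w : Tw M R W) {h k : G}
    (hh : h ∈ M) (hk : k ∈ M) (a : Apart W k h) {x : G} (hx : x ∈ img E h) {v : G}
    (hv : v ∈ img W k) : ∃ c ∈ img W h, x * v * x⁻¹ = c * v := by
  refine ⟨⁅v, x⁆⁻¹, inv_mem ((hb.img w hh).comm v (w.img_le_R hk hv) (a hv) x hx), ?_⟩
  rw [commutatorElement_def]; group

variable {T : Sylow 2 G} {M R E W : Subgroup G} {t : G}

/-- Three sections, one in each pair, moved by their own elements and centralised by the others. -/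
theorem false_of_member_sections {p : ℕ} [Fact p.Prime] (hp2 : p ≠ 2) (hQ : Cfsg.IsQuasithin G)
    (P : PairSys T M R E W t) (w : Tw M R W) (S : Six T M R E W t) {x : G} (hxE : x ∈ E)
    {L : Subgroup G} (hLR : L ≤ R) (hxN : x ∈ normalizer (L : Set G))
    (hxL : x ∉ centralizer (L : Set G)) (hxp : x ^ p = 1)
    (hC : ∀ i j, i ≠ j → ∀ v ∈ img L (S.g j false),
      S.g i false * x * (S.g i false)⁻¹ * v = v * (S.g i false * x * (S.g i false)⁻¹)) : False := by
  have hL : ∀ i, img L (S.g i false) ≤ R := fun i => by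
    rintro _ ⟨v, hv, rfl⟩
    exact (mem_normalizer_iff.1 (w.norm_R (S.mem i false)) _).1 (hLR hv)
  refine false_of_sections hp2 hQ (fun i => img L (S.g i false))
    ((T.isPGroup'.to_le P.hRT).to_le (iSup_le hL)) ?_ (fun i => S.g i false * x * (S.g i false)⁻¹)
    (fun i => Subgroup.le_normalizer_map _ ⟨x, hxN, rfl⟩)
    (fun i j hij => mem_centralizer_iff.2 fun v hv => (hC i j hij v hv).symm)
    (fun i hc => hxL (mem_centralizer_iff.2 fun v hv => ?_))
    (fun i => by rw [conj_pow, hxp, mul_one, mul_inv_cancel]) ?_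
  · intro e
    refine hxL (mem_centralizer_iff.2 fun v hv => ?_)
    have := (Subgroup.map_eq_bot_iff_of_injective _ (MulAut.conj (S.g 0 false)).injective).1 e
    rw [this] at hv
    rw [mem_bot.1 hv, one_mul, mul_one]
  · have h1 := mem_centralizer_iff.1 hc _ (conj_mem_img (S.g i false) hv)
    have h2 := congrArg (fun y => (S.g i false)⁻¹ * y * S.g i false) h1
    simpa [mul_assoc] using h2
  · simp only [S.g1, S.g2, one_mul, inv_one, mul_one]
    exact P.comm x hxE x hxE

/-- No linear blocks of degree at least four. -/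
theorem false_of_linKind (hQ : Cfsg.IsQuasithin G) (P : PairSys T M R E W t) (w : Tw M R W)
    (S : Six T M R E W t) (hk : LinKind R E W) : False := by
  obtain ⟨hcov, p, hp, hp2, x, hx, hxp, hxn, w₀, hw₀, s₀, hs₀, hne⟩ := hk
  haveI : Fact p.Prime := ⟨hp⟩
  set a := S.g 1 true
  have haM : a ∈ M := S.mem 1 true
  have ha : ¬ Apart W a 1 := by
    have := S.own 1 true
    rwa [Bool.not_true, S.g1] at this
  have hY : ∀ s ∈ R ⊓ E, ∃ y ∈ img W a, y⁻¹ * s ∈ centralizer (W : Set G) := by
    refine hcov _ (w.img_le_R haM) (w.R_le_normalizer_img haM)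
      (fun u hu v hv => (mem_centralizer_iff.1 (w.apart_self (g := a) hu) v hv).symm) (fun h => ha ?_)
      ?_
    · rwa [Apart, img_one]
    · rw [w.card_exact haM ha, Subgroup.card_map_of_injective (MulAut.conj a).injective]
  set L := ⁅W, R ⊓ E⁆ with hL
  have hLR : L ≤ R := commutator_le.2 fun u hu v hv => by
    have := P.base.hWR hu
    exact mul_mem (mul_mem (mul_mem this hv.1) (inv_mem this)) (inv_mem hv.1)
  have hxN : x ∈ normalizer (L : Set G) := mem_normalizer_iff_map_conj_eq.2 (by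
    show L.map cj[x] = L
    rw [hL, map_commutator, show W.map cj[x] = W from mem_normalizer_iff_map_conj_eq.1 (P.base.hEW hx),
      show (R ⊓ E).map cj[x] = R ⊓ E from mem_normalizer_iff_map_conj_eq.1 hxn])
  refine false_of_member_sections hp2 hQ P w S hx hLR hxN
    (fun hc => hne (mem_centralizer_iff.1 hc _ (commutator_mem_commutator hw₀ hs₀)).symm) hxp ?_
  intro i j hij
  set h := S.g i false
  set k := S.g j false
  have hpart : dd R W (k * a) = dd R W (S.g j true) :=
    w.dd_eq_of_twin (S.mem j false) (mul_mem (S.mem j false) haM) (S.mem j true)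
      (by simpa using w.moving_translate (s := k) ha) (by simpa using S.own j true)
  have a₁ : Apart W k h := S.cross j i false false (Ne.symm hij)
  have a₂ : Apart W (k * a) h := ((w.apart_congr (S.mem i false) hpart).2
    (S.cross i j false true hij)).symm
  set X := h * x * h⁻¹
  have hX : X ∈ img E h := conj_mem_img h hx
  suffices hgen : L.map cj[k] ≤ centralizer ({X} : Set G) by
    intro v hv
    exact (mem_centralizer_singleton_iff.1 (hgen hv)).symm
  rw [hL, map_commutator, commutator_le]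
  rintro _ ⟨u, hu, rfl⟩ _ ⟨s, hs, rfl⟩
  obtain ⟨y, hy, hys⟩ := hY s hs
  rw [mem_centralizer_singleton_iff]
  have e0 : ⁅u, s⁆ = ⁅u, y⁆ := by
    have hd : u * (y⁻¹ * s) = y⁻¹ * s * u := mem_centralizer_iff.1 hys u hu
    calc ⁅u, s⁆ = u * y * (y⁻¹ * s) * u⁻¹ * (y⁻¹ * s)⁻¹ * y⁻¹ := by
          rw [commutatorElement_def]; group
      _ = u * y * (y⁻¹ * s * u⁻¹) * (y⁻¹ * s)⁻¹ * y⁻¹ := by group
      _ = u * y * (u⁻¹ * (y⁻¹ * s)) * (y⁻¹ * s)⁻¹ * y⁻¹ := by
          rw [(Commute.inv_left (a := u) (b := y⁻¹ * s) hd).eq.symm]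
      _ = _ := by rw [commutatorElement_def]; group
  have e1 : ⁅cj[k] u, cj[k] s⁆ = ⁅k * u * k⁻¹, k * y * k⁻¹⁆ := by
    rw [← map_commutatorElement, e0, map_commutatorElement]
    simp
  rw [e1]
  have hu' : k * u * k⁻¹ ∈ img W k := conj_mem_img k hu
  have hy' : k * y * k⁻¹ ∈ img W (k * a) := by
    rw [← img_img]
    exact ⟨y, hy, rfl⟩
  obtain ⟨c, hc, ec⟩ := exists_shift P.base w (S.mem i false) (S.mem j false) a₁ hX hu'
  obtain ⟨d, hd, ed⟩ := exists_shift P.base w (S.mem i false) (mul_mem (S.mem j false) haM) a₂ hX hy'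
  have hfix : X * ⁅k * u * k⁻¹, k * y * k⁻¹⁆ * X⁻¹ = ⁅k * u * k⁻¹, k * y * k⁻¹⁆ := by
    rw [← MulAut.conj_apply, map_commutatorElement, MulAut.conj_apply, MulAut.conj_apply, ec, ed]
    exact commutator_central_mul (mem_centralizer_iff.1 (a₁ hu') c hc)
      (mem_centralizer_iff.1 (a₂ hy') c hc) (mem_centralizer_iff.1 (a₁ hu') d hd)
      (mem_centralizer_iff.1 (a₂ hy') d hd)
      (mem_centralizer_iff.1 (w.apart_self (g := h) hd) c hc)
  calc ⁅k * u * k⁻¹, k * y * k⁻¹⁆ * X
      = X * ⁅k * u * k⁻¹, k * y * k⁻¹⁆ * X⁻¹ * X := by rw [hfix]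
    _ = X * ⁅k * u * k⁻¹, k * y * k⁻¹⁆ := by rw [inv_mul_cancel_right]

theorem Tw.conj_cent {M R W : Subgroup G} (w : Tw M R W) {s : G} (hs : s ∈ M) {y : G}
    (hy : y ∈ centralizer (R : Set G)) : s * y * s⁻¹ ∈ centralizer (R : Set G) := by
  have h : s * y * s⁻¹ ∈ (centralizer (R : Set G)).map cj[s] := ⟨y, hy, rfl⟩
  rwa [Baumann.map_centralizer_conj,
    show R.map cj[s] = R from mem_normalizer_iff_map_conj_eq.1 (w.norm_R hs)] at h

/-- The fixed involution of an image. -/
theorem exists_fixed {M R W : Subgroup G} (_w : Tw M R W) (hR : IsPGroup 2 R) {U : Subgroup G}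
    (hUR : U ≤ R) (hn : R ≤ normalizer (U : Set G)) (hU : U ≠ ⊥) :
    ∃ u ∈ U, u ≠ 1 ∧ u ∈ centralizer (R : Set G) := by
  haveI : Fact (Nat.Prime 2) := ⟨Nat.prime_two⟩
  haveI : (U.subgroupOf R).Normal := normal_subgroupOf_of_le_normalizer hn
  have hne : U.subgroupOf R ≠ ⊥ := fun e => hU (by
    rw [← map_subgroupOf_eq_of_le hUR, e, Subgroup.map_bot])
  obtain ⟨⟨z, hz⟩, hz0⟩ :=
    Subgroup.ne_bot_iff_exists_ne_one.1 (Fusion.pGroup_inf_center_ne_bot hR (U.subgroupOf R) hne)
  have hz1 : z ≠ 1 := fun e => hz0 (Subtype.ext e)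
  exact ⟨z, mem_subgroupOf.1 hz.1, fun e => hz1 (Subtype.ext e), mem_centralizer_iff.2 fun r hr =>
    congrArg Subtype.val (Subgroup.mem_center_iff.1 hz.2 ⟨r, hr⟩)⟩

section Fixed

variable (P : PairSys T M R E W t) (w : Tw M R W) (hf : FixOne R E W)
include P w hf

theorem fixed_unique {h : G} (hh : h ∈ M) {a b : G} (ha : a ∈ img W h) (hb : b ∈ img W h)
    (ha1 : a ≠ 1) (hb1 : b ≠ 1) (hac : a ∈ centralizer (R : Set G))
    (hbc : b ∈ centralizer (R : Set G)) : a = b := by
  have hc : ∀ {y : G}, y ∈ centralizer (R : Set G) → h⁻¹ * y * h ∈ centralizer (R : Set G) := by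
    intro y hy
    have h1 := w.conj_cent (inv_mem hh) hy
    rwa [inv_inv] at h1
  have hn1 : ∀ {y : G}, y ≠ 1 → h⁻¹ * y * h ≠ 1 := fun hy e => hy (by
    have := congrArg (fun z => h * z * h⁻¹) e
    simpa [mul_assoc] using this)
  have := hf.uniq _ (mem_img.1 ha) _ (mem_img.1 hb) (hn1 ha1) (hn1 hb1) (hc hac) (hc hbc)
  have := congrArg (fun z => h * z * h⁻¹) this
  simpa [mul_assoc] using this

/-- Non-commuting images have the same fixed involution. -/
theorem fixed_mem_of_moving {h k : G} (hh : h ∈ M) (hk : k ∈ M) (a : ¬ Apart W h k) {u : G}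
    (hu : u ∈ img W h) (hu1 : u ≠ 1) (huc : u ∈ centralizer (R : Set G)) : u ∈ img W k := by
  have hne : img W h ⊓ img W k ≠ ⊥ := by
    intro e
    refine a fun x hx => mem_centralizer_iff.2 fun y hy => ?_
    replace hx : x ∈ img W h := hx
    replace hy : y ∈ img W k := hy
    have h1 : ⁅x, y⁆ ∈ img W h ⊓ img W k := by
      refine ⟨?_, ?_⟩
      · rw [commutatorElement_def, mul_assoc, mul_assoc, ← mul_assoc y]
        exact mul_mem hx ((mem_normalizer_iff.1
          (w.R_le_normalizer_img hh (w.img_le_R hk hy)) _).1 ((img W h).inv_mem hx))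
      · exact mul_mem ((mem_normalizer_iff.1
          (w.R_le_normalizer_img hk (w.img_le_R hh hx)) _).1 hy) ((img W k).inv_mem hy)
    rw [e, mem_bot] at h1
    exact (commutatorElement_eq_one_iff_mul_comm.1 h1).symm
  obtain ⟨v, hv, hv1, hvc⟩ := exists_fixed w (T.isPGroup'.to_le P.hRT)
    (inf_le_left.trans (w.img_le_R hh))
    ((le_inf (w.R_le_normalizer_img hh) (w.R_le_normalizer_img hk)).trans
      (Subgroup.inf_normalizer_le_normalizer_inf)) hne
  rw [fixed_unique P w hf hh hu hv.1 hu1 hv1 huc hvc]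
  exact hv.2

/-- Images in different pairs meet trivially. -/
theorem img_inf_eq_bot (S : Six T M R E W t) {i j : Fin 3} (hij : i ≠ j) (b c : Bool) :
    img W (S.g i b) ⊓ img W (S.g j c) = ⊥ := by
  by_contra hne
  obtain ⟨u, hu, hu1, huc⟩ := exists_fixed w (T.isPGroup'.to_le P.hRT)
    (inf_le_left.trans (w.img_le_R (S.mem i b)))
    ((le_inf (w.R_le_normalizer_img (S.mem i b)) (w.R_le_normalizer_img (S.mem j c))).trans
      (Subgroup.inf_normalizer_le_normalizer_inf)) hne
  -- the same involution on both sides of each pair, and for equal centralisers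
  have hboth : ∀ {i : Fin 3} {b : Bool} {u : G}, u ≠ 1 → u ∈ centralizer (R : Set G) →
      u ∈ img W (S.g i b) → ∀ c, u ∈ img W (S.g i c) := by
    intro i b u h1 hc hu c
    by_cases hbc : c = b
    · exact hbc ▸ hu
    · obtain rfl : c = !b := by cases b <;> cases c <;> simp at hbc ⊢
      exact fixed_mem_of_moving P w hf (S.mem i b) (S.mem i _) (S.own i b) hu h1 hc
  have hconj : ∀ {s : G}, s ∈ (T : Subgroup G) → ∀ {i j : Fin 3} {b c : Bool} {u : G}, u ≠ 1 →
      u ∈ centralizer (R : Set G) → u ∈ img W (S.g i b) →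
      dd R W (s * S.g i b) = dd R W (S.g j c) → s * u * s⁻¹ ∈ img W (S.g j c) := by
    intro s hs i j b c u h1 hc hu e
    have hsM := P.hTM hs
    have h2 : s * u * s⁻¹ ∈ centralizer (R : Set G) := w.conj_cent hsM hc
    have h3 : s * u * s⁻¹ ∈ img W (s * S.g i b) := by
      rw [← img_img]; exact ⟨u, hu, rfl⟩
    have h4 : s * u * s⁻¹ ≠ 1 := fun e' => h1 (conj_eq_one_iff.1 e')
    have m : ¬ Apart W (s * S.g i b) (S.g j !c) := fun h' => S.own j c
      ((w.apart_congr (S.mem j !c) e).1 h'.symm).symm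
    have h5 := fixed_mem_of_moving P w hf (mul_mem hsM (S.mem i b)) (S.mem j !c) m h3 h4 h2
    have h6 := hboth h4 h2 h5 c
    exact h6
  have h12 : ∀ {v : G}, v ≠ 1 → v ∈ centralizer (R : Set G) → v ∈ img W (S.g 1 false) →
      v ∉ img W (S.g 2 false) := by
    intro v hv1 hvc hv hv'
    rw [S.g1, img_one] at hv
    rw [S.g2] at hv'
    refine hv1 (mem_bot.1 (hf.bot.le ⟨hv, mem_centralizer_iff.2 fun e he => ?_⟩))
    obtain ⟨f, hf', rfl⟩ := hv'
    exact P.comm e he f (P.base.hWE hf')
  have h0 : ∀ {j : Fin 3} {v : G}, j ≠ 0 → v ≠ 1 → v ∈ centralizer (R : Set G) →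
      v ∈ img W (S.g 0 false) → v ∉ img W (S.g j false) := by
    intro j v hj hv1 hvc hv hv'
    obtain ⟨d, hd⟩ := S.fix0 t P.ht false
    have hv0 : t * v * t⁻¹ ∈ img W (S.g 0 false) := by
      have h1 := hconj P.ht hv1 hvc hv hd
      have h2 : t * v * t⁻¹ ∈ centralizer (R : Set G) := w.conj_cent (P.hTM P.ht) hvc
      exact hboth (fun e' => hv1 (conj_eq_one_iff.1 e')) h2 h1 false
    have htv : t * v * t⁻¹ ≠ 1 := fun e' => hv1 (conj_eq_one_iff.1 e')
    have htc : t * v * t⁻¹ ∈ centralizer (R : Set G) := w.conj_cent (P.hTM P.ht) hvc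
    have e0 : t * v * t⁻¹ = v := fixed_unique P w hf (S.mem 0 false) hv0 hv htv hv1 htc hvc
    obtain rfl | rfl : j = 1 ∨ j = 2 := by omega
    · have h1 := hconj P.ht hv1 hvc hv' (S.notN t P.ht P.htE false).1
      exact h12 hv1 hvc hv' (e0 ▸ h1)
    · have h1 := hconj P.ht hv1 hvc hv' (S.notN t P.ht P.htE false).2
      exact h12 hv1 hvc (e0 ▸ h1) hv'
  have hui := hboth hu1 huc hu.1 false
  have huj := hboth hu1 huc hu.2 false
  by_cases hi : i = 0
  · subst hi; exact h0 (Ne.symm hij) hu1 huc hui huj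
  by_cases hj : j = 0
  · subst hj; exact h0 hij hu1 huc huj hui
  obtain rfl | rfl : i = 1 ∨ i = 2 := by omega
  · obtain rfl : j = 2 := by omega
    exact h12 hu1 huc hui huj
  · obtain rfl : j = 1 := by omega
    exact h12 hu1 huc huj hui

end Fixed

/-- No alternating blocks of degree at least five. -/
theorem false_of_symKind (hQ : Cfsg.IsQuasithin G) (P : PairSys T M R E W t) (w : Tw M R W)
    (S : Six T M R E W t) (hk : SymKind R E W) : False := by
  obtain ⟨hf, x, Q, hx, h3, hxW, hQ', hxQ, hfix⟩ := hk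
  haveI : Fact (Nat.Prime 3) := ⟨Nat.prime_three⟩
  haveI : Fact (Nat.Prime 2) := ⟨Nat.prime_two⟩
  refine false_of_member_sections (p := 3) (by decide) hQ P w S hx P.base.hWR (P.base.hEW hx) hxW h3
    fun i j hij v hv => ?_
  set h := S.g i false
  set k := S.g j false
  have hh : h ∈ M := S.mem i false
  have hb := P.base.img w hh
  have hbot : img W h ⊓ img W k = ⊥ := img_inf_eq_bot P w hf S hij false false
  have a : Apart W k h := S.cross j i false false (Ne.symm hij)
  have hvR : v ∈ R := w.img_le_R (S.mem j false) hv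
  have hQh : ∀ q ∈ Q.map cj[h], q ∈ R ∧ q ∈ img E h := by
    rintro _ ⟨q, hq, rfl⟩
    exact ⟨(mem_normalizer_iff.1 (w.norm_R hh) _).1 (hQ' hq).1, conj_mem_img h (hQ' hq).2⟩
  -- `Q` centralises the other image
  have hQv : ∀ q ∈ Q.map cj[h], q * v = v * q := by
    intro q hq
    obtain ⟨hqR, hqE⟩ := hQh q hq
    have h1 : ⁅v, q⁆ ∈ img W h ⊓ img W k := by
      refine ⟨hb.comm v hvR (a hv) q hqE, ?_⟩
      rw [commutatorElement_def, mul_assoc, mul_assoc, ← mul_assoc q]
      exact mul_mem hv ((mem_normalizer_iff.1 (w.R_le_normalizer_img (S.mem j false) hqR) _).1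
        (inv_mem hv))
    rw [hbot, mem_bot] at h1
    exact (commutatorElement_eq_one_iff_mul_comm.1 h1).symm
  set X := h * x * h⁻¹ with hXd
  have hX : X ∈ img E h := conj_mem_img h hx
  obtain ⟨c, hc, ec⟩ := exists_shift P.base w hh (S.mem j false) a hX hv
  -- `c` is centralised by `Q` and `X`
  have hXQ : X ∈ normalizer ((Q.map cj[h] : Subgroup G) : Set G) :=
    Subgroup.le_normalizer_map _ ⟨x, hxQ, rfl⟩
  have hcQ : c ∈ centralizer ((Q.map cj[h] : Subgroup G) : Set G) := by
    refine mem_centralizer_iff.2 fun q hq => ?_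
    have e : c = X * v * X⁻¹ * v⁻¹ := by rw [ec]; group
    have hq1 : q * (X * v * X⁻¹) = X * v * X⁻¹ * q := by
      have h1 := hQv _ ((mem_normalizer_iff.1 (inv_mem hXQ) q).1 hq)
      rw [inv_inv] at h1
      calc q * (X * v * X⁻¹) = X * (X⁻¹ * q * X * v) * X⁻¹ := by group
        _ = X * (v * (X⁻¹ * q * X)) * X⁻¹ := by rw [h1]
        _ = _ := by group
    rw [e]
    calc q * (X * v * X⁻¹ * v⁻¹) = (q * (X * v * X⁻¹)) * v⁻¹ := by group
      _ = X * v * X⁻¹ * (q * v⁻¹) := by rw [hq1]; group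
      _ = X * v * X⁻¹ * (v⁻¹ * q) := by
          rw [(Commute.inv_right (a := q) (b := v) (hQv q hq)).eq]
      _ = _ := by group
  have hcX : X * c * X⁻¹ = c := by
    have h1 : h⁻¹ * c * h ∈ W ⊓ centralizer (Q : Set G) := by
      refine ⟨mem_img.1 hc, mem_centralizer_iff.2 fun q hq => ?_⟩
      have := congrArg (fun z => h⁻¹ * z * h) (mem_centralizer_iff.1 hcQ _ ⟨q, hq, rfl⟩)
      simpa [mul_assoc] using this
    have h2 := mem_centralizer_singleton_iff.1 (hfix h1)
    have h3 := congrArg (fun z => h * z * h⁻¹) h2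
    simp only [mul_assoc] at h3
    calc X * c * X⁻¹ = (X * c) * X⁻¹ := rfl
      _ = (c * X) * X⁻¹ := by
          congr 1
          simpa [hXd, mul_assoc] using h3.symm
      _ = c := by group
  have hX3 : X ^ 3 = 1 := by rw [hXd, conj_pow, h3, mul_one, mul_inv_cancel]
  have hc3 : c ^ 3 = 1 := by
    have e2 : ∀ n : ℕ, X ^ n * v * (X ^ n)⁻¹ = c ^ n * v := by
      intro n
      induction n with
      | zero => simp
      | succ n ih =>
        have hcn : X * c ^ n * X⁻¹ = c ^ n := by rw [← conj_pow, hcX]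
        calc X ^ (n + 1) * v * (X ^ (n + 1))⁻¹ = X * (X ^ n * v * (X ^ n)⁻¹) * X⁻¹ := by
              rw [pow_succ']; group
          _ = (X * c ^ n * X⁻¹) * (X * v * X⁻¹) := by rw [ih]; group
          _ = c ^ n * (c * v) := by rw [hcn, ec]
          _ = _ := by rw [pow_succ, mul_assoc]
    have := e2 3
    rw [hX3, inv_one, one_mul, mul_one] at this
    exact (mul_eq_right.1 this.symm)
  have hc1 : c = 1 := by
    obtain ⟨m, hm⟩ := IsPGroup.iff_orderOf.1 (T.isPGroup'.to_le P.hRT) ⟨c, w.img_le_R hh hc⟩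
    rw [← Subgroup.orderOf_coe] at hm
    have hd : orderOf c ∣ 3 := orderOf_dvd_of_pow_eq_one hc3
    have h0 : (2 ^ m).Coprime 3 := Nat.Coprime.pow_left m (by decide)
    rw [show orderOf c = 2 ^ m from hm] at hd
    exact orderOf_eq_one_iff.1 (hm.trans (Nat.Coprime.eq_one_of_dvd h0 hd))
  rw [hc1, one_mul] at ec
  calc X * v = X * v * X⁻¹ * X := by group
    _ = v * X := by rw [ec]

end Cfsg.Agent.QtkePush
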