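import Cfsg.Prelude.Def_Quasithin
import Cfsg.Agent.Fusion.PGroup
import Cfsg.Agent.Coprime.Tools
import Mathlib.GroupTheory.PGroup
import Mathlib.GroupTheory.QuotientGroup.Basic

/-!
# Three independent elements of odd prime order force rank three
-/

set_option autoImplicit false
set_option linter.unusedSectionVars false
set_option linter.style.haveILetI false

namespace Cfsg.Agent.QtkePush

open Subgroup
open scoped commutatorElement

universe u

variable {G : Type u} [Group G] [Finite G] {p : ℕ} [hp : Fact p.Prime]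

/-- An exponent-`p` abelian subgroup containing three independent elements has order above `p²`. -/
theorem card_gt_of_indep {B : Subgroup G} {a b c : G} (ha : a ∈ B) (hb : b ∈ B) (hc : c ∈ B)
    (hind : ∀ i j k : ℕ, i < p → j < p → k < p → ∀ i' j' k' : ℕ, i' < p → j' < p → k' < p →
      a ^ i * b ^ j * c ^ k = a ^ i' * b ^ j' * c ^ k' → i = i' ∧ j = j' ∧ k = k') :
    p ^ 2 < Nat.card B := by
  let f : Fin p × Fin p × Fin p → ↥B := fun v => ⟨a ^ (v.1 : ℕ) * b ^ (v.2.1 : ℕ) * c ^ (v.2.2 : ℕ),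
    mul_mem (mul_mem (pow_mem ha _) (pow_mem hb _)) (pow_mem hc _)⟩
  have hf : Function.Injective f := by
    rintro ⟨i, j, k⟩ ⟨i', j', k'⟩ e
    obtain ⟨h1, h2, h3⟩ :=
      hind _ _ _ i.2 j.2 k.2 _ _ _ i'.2 j'.2 k'.2 (congrArg Subtype.val e :)
    exact Prod.ext (Fin.ext h1) (Prod.ext (Fin.ext h2) (Fin.ext h3))
  have := Nat.card_le_card_of_injective f hf
  rw [Nat.card_prod, Nat.card_prod, Nat.card_fin] at this
  have h2 := hp.out.two_le
  nlinarith

/-- **Rank lemma.**  In a group `B`, two commuting elements of order `p` and a third element, all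
commuting modulo a normal subgroup `N` and independent there, give `p`-rank at least three. -/
theorem not_pRankLE_two {L : Subgroup G} (hL : Cfsg.PRankLE p 2 ↥L) {N B : Subgroup G}
    (hBL : B ≤ L) (hBN : B ≤ normalizer (N : Set G)) {x₁ x₂ y : G} (h₁ : x₁ ∈ B)
    (h₂ : x₂ ∈ B) (hy : y ∈ B) (e₁ : x₁ ^ p = 1) (e₂ : x₂ ^ p = 1) (ey : y ^ p ∈ N)
    (c₁₂ : x₁ * x₂ = x₂ * x₁) (c₁ : ⁅x₁, y⁆ ∈ N) (c₂ : ⁅x₂, y⁆ ∈ N)
    (hind : ∀ i j k : ℕ, x₁ ^ i * x₂ ^ j * y ^ k ∈ N → p ∣ i ∧ p ∣ j ∧ p ∣ k) : False := by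
  classical
  -- the rank bound in `G`
  have hrank : ∀ A : Subgroup G, A ≤ L → (∀ a ∈ A, ∀ b ∈ A, a * b = b * a) →
      (∀ a ∈ A, a ^ p = 1) → Nat.card A ≤ p ^ 2 := by
    intro A hA hc he
    rw [← Nat.card_congr (Subgroup.subgroupOfEquivOfLe hA).toEquiv]
    exact hL (A.subgroupOf L)
      ⟨⟨fun a b => Subtype.ext (Subtype.ext (hc _ (mem_subgroupOf.1 a.2) _ (mem_subgroupOf.1 b.2)))⟩⟩
      fun a ha => Subtype.ext (he _ (mem_subgroupOf.1 ha))
  haveI : (N.subgroupOf B).Normal := normal_subgroupOf_of_le_normalizer hBN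
  set π := QuotientGroup.mk' (N.subgroupOf B) with hπ
  have hker : ∀ {g : ↥B}, π g = 1 ↔ (g : G) ∈ N := fun {g} => by
    rw [hπ, QuotientGroup.mk'_apply, QuotientGroup.eq_one_iff, mem_subgroupOf]
  have hcm : ∀ (a b : ↥B), ⁅(a : G), (b : G)⁆ ∈ N → Commute (π a) (π b) := by
    intro a b h
    rw [← commutatorElement_eq_one_iff_commute, ← map_commutatorElement, hker]
    simpa [commutatorElement_def] using h
  set a₁ : ↥B := ⟨x₁, h₁⟩
  set a₂ : ↥B := ⟨x₂, h₂⟩
  set b : ↥B := ⟨y, hy⟩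
  have k12 : Commute (π a₁) (π a₂) := by
    show π a₁ * π a₂ = π a₂ * π a₁
    rw [← map_mul, ← map_mul]
    exact congrArg π (Subtype.ext c₁₂)
  have k1 : Commute (π a₁) (π b) := hcm _ _ c₁
  have k2 : Commute (π a₂) (π b) := hcm _ _ c₂
  set K : Subgroup (↥B ⧸ N.subgroupOf B) := Subgroup.closure {π a₁, π a₂, π b} with hK
  have hKc : ∀ u ∈ K, ∀ v ∈ K, u * v = v * u := by
    have h : K ≤ centralizer (K : Set (↥B ⧸ N.subgroupOf B)) := by
      rw [hK, centralizer_closure, closure_le]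
      intro u hu
      refine mem_centralizer_iff.2 fun v hv => ?_
      simp only [Set.mem_insert_iff, Set.mem_singleton_iff] at hu hv
      rcases hu with rfl | rfl | rfl <;> rcases hv with rfl | rfl | rfl <;>
        first
          | rfl | exact k12 | exact k12.symm | exact k1 | exact k1.symm | exact k2 | exact k2.symm
    exact fun u hu v hv => mem_centralizer_iff.1 (h hv) u hu
  have hKe : ∀ u ∈ K, u ^ p = 1 := by
    intro u hu
    induction hu using Subgroup.closure_induction with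
    | mem u hu =>
      simp only [Set.mem_insert_iff, Set.mem_singleton_iff] at hu
      rcases hu with rfl | rfl | rfl <;> rw [← map_pow, hker, Subgroup.coe_pow]
      · rw [show ((a₁ : G)) = x₁ from rfl, e₁]; exact one_mem _
      · rw [show ((a₂ : G)) = x₂ from rfl, e₂]; exact one_mem _
      · exact ey
    | one => exact one_pow _
    | mul u v hu hv ihu ihv =>
      rw [(show Commute u v from hKc u hu v hv).mul_pow, ihu, ihv, one_mul]
    | inv u _ ih => rw [inv_pow, ih, inv_one]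
  -- the preimage
  set C : Subgroup ↥B := K.comap π with hC
  have ha₁ : a₁ ∈ C := Subgroup.mem_comap.2 (subset_closure (by simp))
  have ha₂ : a₂ ∈ C := Subgroup.mem_comap.2 (subset_closure (by simp))
  have hb : b ∈ C := Subgroup.mem_comap.2 (subset_closure (by simp))
  set Q : Subgroup ↥C := Subgroup.closure {⟨a₁, ha₁⟩, ⟨a₂, ha₂⟩} with hQ
  have hQc : Q ≤ centralizer (Q : Set ↥C) := by
    rw [hQ, centralizer_closure, closure_le]
    intro u hu
    refine mem_centralizer_iff.2 fun v hv => Subtype.ext (Subtype.ext ?_)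
    simp only [Set.mem_insert_iff, Set.mem_singleton_iff] at hu hv
    rcases hu with rfl | rfl <;> rcases hv with rfl | rfl <;>
      first | rfl | exact c₁₂ | exact c₁₂.symm
  have hQp : IsPGroup p Q := by
    rintro ⟨u, hu⟩
    refine ⟨1, Subtype.ext ?_⟩
    show u ^ p ^ 1 = 1
    rw [pow_one]
    induction hu using Subgroup.closure_induction with
    | mem v hv =>
      simp only [Set.mem_insert_iff, Set.mem_singleton_iff] at hv
      rcases hv with rfl | rfl <;> exact Subtype.ext (Subtype.ext (by first | exact e₁ | exact e₂))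
    | one => exact one_pow _
    | mul v w hv hw ihv ihw =>
      rw [(show Commute v w from (mem_centralizer_iff.1 (hQc hw) v hv)).mul_pow, ihv, ihw, one_mul]
    | inv v _ ih => rw [inv_pow, ih, inv_one]
  obtain ⟨P, hQP⟩ := hQp.exists_le_sylow
  let ρ : ↥C →* ↥K := π.subgroupComap K
  have hρ : Function.Surjective ρ := MonoidHom.subgroupComap_surjective_of_surjective _ _
    (QuotientGroup.mk'_surjective _)
  have hKp : IsPGroup p ↥K := fun u => ⟨1, Subtype.ext (by rw [pow_one]; exact hKe u u.2)⟩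
  have hP₁ : (⟨a₁, ha₁⟩ : ↥C) ∈ (P : Subgroup ↥C) := hQP (subset_closure (by simp))
  have hP₂ : (⟨a₂, ha₂⟩ : ↥C) ∈ (P : Subgroup ↥C) := hQP (subset_closure (by simp))
  -- exponents below `p`
  have hlt : ∀ {i i' : ℕ}, i < p → i' < p → p ∣ (i + (p - i')) → i = i' := by
    intro i i' hi hi' h
    obtain ⟨t, ht⟩ := h
    have h2 : t < 2 := by
      by_contra hh
      push Not at hh
      have : p * 2 ≤ p * t := Nat.mul_le_mul_left p hh
      omega
    interval_cases t <;> omega
  have hsum : ∀ i j k i' j' k' : ℕ, i < p → j < p →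
      k < p → i' < p → j' < p → k' < p →
      π a₁ ^ i * π a₂ ^ j * π b ^ k = π a₁ ^ i' * π a₂ ^ j' * π b ^ k' →
      i = i' ∧ j = j' ∧ k = k' := by
    intro i j k i' j' k' hi hj hk hi' hj' hk' e
    have E1 : π a₁ ^ p = 1 := hKe _ (subset_closure (by simp))
    have E2 : π a₂ ^ p = 1 := hKe _ (subset_closure (by simp))
    have E3 : π b ^ p = 1 := hKe _ (subset_closure (by simp))
    have h : π a₁ ^ (i + (p - i')) * π a₂ ^ (j + (p - j')) * π b ^ (k + (p - k')) = 1 := by
      have hA : π a₁ ^ i' * π a₁ ^ (p - i') = 1 := by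
        rw [← pow_add, Nat.add_sub_cancel' hi'.le, E1]
      have hB : π a₂ ^ j' * π a₂ ^ (p - j') = 1 := by
        rw [← pow_add, Nat.add_sub_cancel' hj'.le, E2]
      have hC' : π b ^ k' * π b ^ (p - k') = 1 := by
        rw [← pow_add, Nat.add_sub_cancel' hk'.le, E3]
      have hmove : ∀ (i j k i' j' k' : ℕ), π a₁ ^ (i + i') * π a₂ ^ (j + j') * π b ^ (k + k') =
          (π a₁ ^ i * π a₂ ^ j * π b ^ k) * (π a₁ ^ i' * π a₂ ^ j' * π b ^ k') := by
        intro i j k i' j' k'
        rw [pow_add, pow_add, pow_add]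
        calc π a₁ ^ i * π a₁ ^ i' * (π a₂ ^ j * π a₂ ^ j') * (π b ^ k * π b ^ k')
            = π a₁ ^ i * (π a₁ ^ i' * π a₂ ^ j) * (π a₂ ^ j' * π b ^ k) * π b ^ k' := by group
          _ = π a₁ ^ i * (π a₂ ^ j * π a₁ ^ i') * (π b ^ k * π a₂ ^ j') * π b ^ k' := by
              rw [(k12.pow_pow i' j).eq, (k2.pow_pow j' k).eq]
          _ = π a₁ ^ i * π a₂ ^ j * (π a₁ ^ i' * π b ^ k) * π a₂ ^ j' * π b ^ k' := by group
          _ = π a₁ ^ i * π a₂ ^ j * (π b ^ k * π a₁ ^ i') * π a₂ ^ j' * π b ^ k' := by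
              rw [(k1.pow_pow i' k).eq]
          _ = _ := by group
      rw [hmove, e, ← hmove, pow_add, pow_add, pow_add, hA, hB, hC', one_mul, one_mul]
    obtain ⟨d1, d2, d3⟩ := hind _ _ _ (by
      have := (hker (g := a₁ ^ (i + (p - i')) * a₂ ^ (j + (p - j')) * b ^ (k + (p - k')))).1 (by
        rw [map_mul, map_mul, map_pow, map_pow, map_pow]; exact h)
      simpa using this)
    exact ⟨hlt hi hi' d1, hlt hj hj' d2, hlt hk hk' d3⟩
  by_cases hcase : ∀ z ∈ (P : Subgroup ↥C), ρ z = 1 → z = 1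
  · have htop : (P : Subgroup ↥C).map ρ = ⊤ := by
      have h1 : ¬ p ∣ ((P : Subgroup ↥C).map ρ).index := fun h =>
        P.not_dvd_index (h.trans (index_map_dvd _ hρ))
      obtain ⟨n, hn⟩ := IsPGroup.iff_card.1 hKp
      have h3 : ((P : Subgroup ↥C).map ρ).index ∣ p ^ n := hn ▸ Subgroup.index_dvd_card _
      obtain ⟨r, -, hr⟩ := (Nat.dvd_prime_pow hp.out).1 h3
      rw [← Subgroup.index_eq_one]
      rcases r with _ | r
      · rwa [pow_zero] at hr
      · exact absurd (hr ▸ dvd_pow_self p (Nat.succ_ne_zero r)) h1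
    obtain ⟨z, hzP, hz⟩ := Subgroup.mem_map.1 (htop.ge (mem_top (⟨π b, hb⟩ : ↥K)))
    set A : Subgroup G := ((P : Subgroup ↥C).map C.subtype).map B.subtype with hA
    have hAc : ∀ u ∈ A, ∀ v ∈ A, u * v = v * u := by
      rintro _ ⟨_, ⟨u, hu, rfl⟩, rfl⟩ _ ⟨_, ⟨v, hv, rfl⟩, rfl⟩
      have : u * v = v * u := by
        refine mul_inv_eq_one.1 (hcase _ (mul_mem (mul_mem hu hv) (inv_mem (mul_mem hv hu))) ?_)
        rw [map_mul, map_inv, mul_inv_eq_one, map_mul, map_mul]
        exact Subtype.ext (hKc _ (ρ u).2 _ (ρ v).2)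
      simp only [← map_mul, this]
    have hAe : ∀ u ∈ A, u ^ p = 1 := by
      rintro _ ⟨_, ⟨u, hu, rfl⟩, rfl⟩
      rw [← map_pow, ← map_pow, hcase _ (pow_mem hu p) (by
        rw [map_pow]; exact Subtype.ext (hKe _ (ρ u).2)), map_one, map_one]
    have := card_gt_of_indep (p := p) (B := A) (a := x₁) (b := x₂) (c := ((z : ↥B) : G))
      ⟨_, ⟨_, hP₁, rfl⟩, rfl⟩ ⟨_, ⟨_, hP₂, rfl⟩, rfl⟩ ⟨_, ⟨z, hzP, rfl⟩, rfl⟩ 
      (fun i j k hi hj hk i' j' k' hi' hj' hk' e => by
        refine hsum i j k i' j' k' hi hj hk hi' hj' hk' ?_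
        have e' : a₁ ^ i * a₂ ^ j * (z : ↥B) ^ k = a₁ ^ i' * a₂ ^ j' * (z : ↥B) ^ k' :=
          Subtype.ext (by simpa using e)
        have hzb : π (z : ↥B) = π b := congrArg Subtype.val hz
        simpa [hzb] using congrArg π e')
    refine absurd (hrank A (fun x hx => ?_) hAc hAe) (not_le.2 this)
    obtain ⟨x', -, rfl⟩ := hx
    exact hBL x'.2
  · push Not at hcase
    obtain ⟨z₀, hz₀P, hz₀, hz₀1⟩ := hcase
    set P' : Subgroup ↥C := (P : Subgroup ↥C)
    set M : Subgroup ↥P' := (ρ.ker).subgroupOf P'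
    haveI hMn : M.Normal := (MonoidHom.normal_ker ρ).comap P'.subtype
    have hMne : M ≠ ⊥ := fun e => hz₀1 <| by
      have : (⟨z₀, hz₀P⟩ : ↥P') ∈ M := mem_subgroupOf.2 hz₀
      rw [e, mem_bot] at this
      exact congrArg Subtype.val this
    obtain ⟨Z, hZM, hZc, -, hZp⟩ := Fusion.exists_central_card_prime P.isPGroup' M hMne
    haveI : Nontrivial Z := Finite.one_lt_card_iff_nontrivial.1 (hp.out.one_lt.trans_eq hZp.symm)
    obtain ⟨⟨⟨c, hcP⟩, hcZ⟩, hc1'⟩ := exists_ne (1 : ↥Z)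
    have hc1 : c ≠ 1 := fun e => hc1' (Subtype.ext (Subtype.ext e))
    have hcp : c ^ p = 1 := by
      have h0 : (⟨⟨c, hcP⟩, hcZ⟩ : ↥Z) ^ Nat.card Z = 1 := pow_card_eq_one'
      have h : (⟨⟨c, hcP⟩, hcZ⟩ : ↥Z) ^ p = 1 := (congrArg _ hZp.symm).trans h0
      exact congrArg (fun u : ↥Z => ((u : ↥P') : ↥C)) h
    have hcker : π (c : ↥B) = 1 := by
      have h : ρ c = 1 := MonoidHom.mem_ker.1 (mem_subgroupOf.1 (hZM hcZ) :)
      exact congrArg Subtype.val h
    have hcc : ∀ u : ↥C, u ∈ P' → u * c = c * u := fun u hu =>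
      congrArg Subtype.val (Subgroup.mem_center_iff.1 (hZc hcZ) ⟨u, hu⟩)
    set cG : G := ((c : ↥B) : G) with hcG
    have hcG1 : cG ≠ 1 := fun e => hc1 (Subtype.ext (Subtype.ext e))
    have hcGp : cG ^ p = 1 := by
      rw [hcG, ← Subgroup.coe_pow, ← Subgroup.coe_pow, hcp]; rfl
    have hco : orderOf cG = p := orderOf_eq_prime hcGp hcG1
    have g1 : x₁ * cG = cG * x₁ :=
      congrArg (fun u : ↥C => ((u : ↥B) : G)) (hcc ⟨a₁, ha₁⟩ hP₁)
    have g2 : x₂ * cG = cG * x₂ :=
      congrArg (fun u : ↥C => ((u : ↥B) : G)) (hcc ⟨a₂, ha₂⟩ hP₂)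
    set A : Subgroup G := Subgroup.closure {x₁, x₂, cG} with hA
    have hAc : A ≤ centralizer (A : Set G) := by
      rw [hA, centralizer_closure, closure_le]
      intro u hu
      refine mem_centralizer_iff.2 fun v hv => ?_
      simp only [Set.mem_insert_iff, Set.mem_singleton_iff] at hu hv
      rcases hu with rfl | rfl | rfl <;> rcases hv with rfl | rfl | rfl <;>
        first
          | rfl | exact c₁₂ | exact c₁₂.symm | exact g1 | exact g1.symm | exact g2 | exact g2.symm
    have hAe : ∀ u ∈ A, u ^ p = 1 := by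
      intro u hu
      induction hu using Subgroup.closure_induction with
      | mem u hu =>
        simp only [Set.mem_insert_iff, Set.mem_singleton_iff] at hu
        rcases hu with rfl | rfl | rfl
        exacts [e₁, e₂, hcGp]
      | one => exact one_pow _
      | mul u v hu hv ihu ihv =>
        rw [(show Commute u v from mem_centralizer_iff.1 (hAc hv) u hu).mul_pow, ihu, ihv, one_mul]
      | inv u _ ih => rw [inv_pow, ih, inv_one]
    have hAL : A ≤ L := by
      rw [hA, closure_le]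
      intro u hu
      simp only [Set.mem_insert_iff, Set.mem_singleton_iff] at hu
      rcases hu with rfl | rfl | rfl
      exacts [hBL h₁, hBL h₂, hBL (c : ↥B).2]
    have := card_gt_of_indep (p := p) (B := A) (a := x₁) (b := x₂) (c := cG)
      (subset_closure (by simp)) (subset_closure (by simp)) (subset_closure (by simp))
      (fun i j k hi hj hk i' j' k' hi' hj' hk' e => by
        have hpow : ∀ n : ℕ, π ((c : ↥B) ^ n) = 1 := fun n => by rw [map_pow, hcker, one_pow]
        have e' : a₁ ^ i * a₂ ^ j * (c : ↥B) ^ k = a₁ ^ i' * a₂ ^ j' * (c : ↥B) ^ k' :=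
          Subtype.ext (by simpa [cG] using e)
        have e2 := congrArg π e'
        rw [map_mul, map_mul, map_mul, map_mul, hpow, hpow, map_pow, map_pow, map_pow, map_pow]
          at e2
        obtain ⟨rfl, rfl, -⟩ := hsum i j 0 i' j' 0
          hi hj hp.out.pos hi' hj' hp.out.pos (by simpa using e2)
        refine ⟨rfl, rfl, ?_⟩
        rw [← Nat.mod_eq_of_lt hk, ← Nat.mod_eq_of_lt hk', ← hco]
        exact pow_eq_pow_iff_modEq.1 (mul_left_cancel e))
    exact absurd (hrank A hAL (fun u hu v hv => mem_centralizer_iff.1 (hAc hv) u hu) hAe)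
      (not_le.2 this)

/-- Three elements, each acting on its own module only, contradict the rank bound. -/
theorem false_of_sections (hp2 : p ≠ 2) (hQ : Cfsg.IsQuasithin G) (W : Fin 3 → Subgroup G)
    (hW : IsPGroup 2 (⨆ i, W i : Subgroup G)) (hW0 : W 0 ≠ ⊥) (x : Fin 3 → G)
    (hxN : ∀ i, x i ∈ normalizer (W i : Set G))
    (hxC : ∀ i j, i ≠ j → x i ∈ centralizer (W j : Set G))
    (hx : ∀ i, x i ∉ centralizer (W i : Set G)) (hxp : ∀ i, x i ^ p = 1)
    (h12 : x 1 * x 2 = x 2 * x 1) : False := by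
  set U := (⨆ i, W i : Subgroup G)
  have hU : U ≠ ⊥ := fun e => hW0 (le_bot_iff.1 (e ▸ le_iSup W 0))
  set B : Subgroup G := Subgroup.closure (Set.range x) with hB
  have hBW : ∀ i, B ≤ normalizer (W i : Set G) := fun i => by
    rw [hB, closure_le]
    rintro _ ⟨j, rfl⟩
    by_cases h : j = i
    · exact h ▸ hxN i
    · exact centralizer_le_normalizer _ (hxC j i h)
  set N : Subgroup G := ⨅ i, centralizer (W i : Set G) with hN
  have hBN : B ≤ normalizer (N : Set G) := by
    refine le_trans ?_ (Subgroup.iInf_normalizer_le_normalizer_iInf _)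
    exact le_iInf fun i => Coprime.le_normalizer_centralizer (hBW i)
  have hmem : ∀ {g : G}, g ∈ N ↔ ∀ i, g ∈ centralizer (W i : Set G) := fun {g} => by
    rw [hN, Subgroup.mem_iInf]
  have hcomm : ∀ i j, ⁅x i, x j⁆ ∈ N := fun i j => hmem.2 fun k => by
    by_cases hij : i = j
    · subst hij; rw [commutatorElement_self]; exact one_mem _
    have key : ∀ a b, a ∈ centralizer (W k : Set G) → b ∈ normalizer (W k : Set G) →
        ⁅a, b⁆ ∈ centralizer (W k : Set G) := by
      intro a b ha hb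
      rw [commutatorElement_def, mul_assoc, mul_assoc, ← mul_assoc b]
      exact mul_mem ha ((mem_normalizer_iff.1
        (Coprime.le_normalizer_centralizer le_rfl hb) _).1 (inv_mem ha))
    by_cases hik : i = k
    · subst hik
      rw [← commutatorElement_inv]
      exact inv_mem (key _ _ (hxC j i (Ne.symm hij)) (hxN i))
    · exact key _ _ (hxC i k hik) (hBW k (subset_closure ⟨j, rfl⟩))
  have hU' : B ≤ normalizer (U : Set G) :=
    le_trans (le_iInf fun i => hBW i) (Subgroup.iInf_normalizer_le_normalizer_iSup _)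
  refine not_pRankLE_two (hQ p hp.out hp2 _ ⟨U, hW, hU, rfl⟩) hU' hBN
    (x₁ := x 1) (x₂ := x 2) (y := x 0)
    (subset_closure ⟨1, rfl⟩) (subset_closure ⟨2, rfl⟩) (subset_closure ⟨0, rfl⟩) (hxp 1) (hxp 2)
    (by rw [hxp]; exact one_mem _) h12 (hcomm 1 0) (hcomm 2 0) fun a b c h => ?_
  have hdvd : ∀ {k : Fin 3} {n : ℕ}, x k ^ n ∈ centralizer (W k : Set G) → p ∣ n := by
    intro k n hn
    by_contra hnd
    obtain ⟨m, hm⟩ := exists_pow_eq_self_of_coprime (x := x k) (n := n)
      (by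
        rw [orderOf_eq_prime (hxp k) fun e => hx k (by rw [e]; exact one_mem _)]
        exact (Nat.Prime.coprime_iff_not_dvd hp.out).2 hnd |>.symm)
    exact hx k (hm ▸ pow_mem hn m)
  have hh := hmem.1 h
  refine ⟨hdvd (k := 1) ?_, hdvd (k := 2) ?_, hdvd (k := 0) ?_⟩
  · have h2 := pow_mem (hxC 2 1 (by decide)) b
    have h0 := pow_mem (hxC 0 1 (by decide)) c
    rw [← Subgroup.mul_mem_cancel_right _ h2, ← Subgroup.mul_mem_cancel_right _ h0]
    exact hh 1
  · have h1 := pow_mem (hxC 1 2 (by decide)) a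
    have h0 := pow_mem (hxC 0 2 (by decide)) c
    rw [← Subgroup.mul_mem_cancel_left _ h1, ← Subgroup.mul_mem_cancel_right _ h0]
    exact hh 2
  · have h1 := pow_mem (hxC 1 0 (by decide)) a
    have h2 := pow_mem (hxC 2 0 (by decide)) b
    rw [← Subgroup.mul_mem_cancel_left _ h2, ← Subgroup.mul_mem_cancel_left _ h1, ← mul_assoc]
    exact hh 0

end Cfsg.Agent.QtkePush
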