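import Cfsg.Agent.QtkePush.Kinds
import Cfsg.Agent.LocalCGT.GlobalInN
import Cfsg.Agent.LocalCGT.DegreeBase
import Cfsg.Agent.LocalStructure.CharP
import Cfsg.Agent.LocalCGT.PermFacts
import Mathlib.GroupTheory.SpecificGroups.Alternating
import Mathlib.GroupTheory.Perm.Fin

/-!
# An alternating block with split module

The translations of an elementary abelian group of order `2 ^ n` on the points different from one
point lie, after conjugation, in the Sylow subgroup of the block, so this fixes one vector only and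
the translations are normalised by an element of order three fixing that vector.
-/

set_option autoImplicit false
set_option linter.unusedSectionVars false
set_option linter.style.haveILetI false

namespace Cfsg.Agent.QtkePush

open Subgroup LocalCGT
open Baumann.Sub (SBlock bW bWE bZ bQ)
open scoped commutatorElement

universe u

/-- The translations. -/
def transHom (n : ℕ) : Multiplicative (Fin n → ZMod 2) →* Equiv.Perm (Fin n → ZMod 2) where
  toFun a := Equiv.addRight a.toAdd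
  map_one' := Equiv.ext fun v => by simp
  map_mul' a b := Equiv.ext fun v => by
    simp only [toAdd_mul, Equiv.Perm.mul_apply, Equiv.coe_addRight]
    abel

theorem transHom_apply {n : ℕ} (a v : Fin n → ZMod 2) :
    transHom n (Multiplicative.ofAdd a) v = v + a := rfl

theorem zmod_two_cases : ∀ c : ZMod 2, c = 0 ∨ c = 1 := by decide

/-- Translations are even from dimension two on. -/
theorem sign_transHom {n : ℕ} (hn : 2 ≤ n) (b : Fin n → ZMod 2) :
    Equiv.Perm.sign (transHom n (Multiplicative.ofAdd b)) = 1 := by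
  classical
  by_cases hb : b = 0
  · subst hb; simp
  obtain ⟨i, hi⟩ : ∃ i, b i = 1 := by
    by_contra hno
    push Not at hno
    refine hb (funext fun i => ?_)
    exact (zmod_two_cases (b i)).resolve_right (hno i)
  haveI : Nontrivial (Fin n) := Fin.nontrivial_iff_two_le.2 hn
  obtain ⟨j, hj⟩ := exists_ne i
  set φ : (Fin n → ZMod 2) → ZMod 2 := fun v => v j + b j * v i with hφ
  have hφb : φ b = 0 := by simp [φ, hi, CharTwo.add_self_eq_zero]
  have hφadd : ∀ v w, φ (v + w) = φ v + φ w := fun v w => by simp only [φ, Pi.add_apply]; ring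
  have hinv : ∀ v, (v + φ v • b) + φ (v + φ v • b) • b = v := fun v => by
    have h1 : φ (φ v • b) = 0 := by
      have : φ (φ v • b) = φ v * φ b := by simp only [φ, Pi.smul_apply, smul_eq_mul]; ring
      rw [this, hφb, mul_zero]
    rw [hφadd, h1, add_zero, add_assoc, ← add_smul, CharTwo.add_self_eq_zero, zero_smul, add_zero]
  let g : Equiv.Perm (Fin n → ZMod 2) :=
    { toFun := fun v => v + φ v • b, invFun := fun v => v + φ v • b, left_inv := hinv
      right_inv := hinv }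
  set a : Fin n → ZMod 2 := Pi.single j 1 with ha
  have hφa : φ a = 1 := by simp [φ, a, hj.symm]
  have key : transHom n (Multiplicative.ofAdd b) = g * transHom n (Multiplicative.ofAdd a) * g⁻¹ *
      (transHom n (Multiplicative.ofAdd a))⁻¹ := by
    rw [eq_mul_inv_iff_mul_eq, eq_mul_inv_iff_mul_eq]
    refine Equiv.ext fun v => ?_
    show g v + a + b = g (v + a)
    show v + φ v • b + a + b = v + a + φ (v + a) • b
    rw [hφadd, hφa, add_smul (φ v) 1 b, one_smul]
    abel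
  rw [key, map_mul, map_mul, map_mul, map_inv, map_inv, mul_right_comm (Equiv.Perm.sign g),
    mul_inv_cancel, one_mul, mul_inv_cancel]

/-- An element of order three normalising the translations. -/
def triPerm {n : ℕ} (hn : 2 ≤ n) : Equiv.Perm (Fin n → ZMod 2) where
  toFun v := fun k => if k.val = 0 then v ⟨1, hn⟩ else if k.val = 1 then
    v ⟨0, Nat.lt_of_lt_of_le Nat.zero_lt_two hn⟩ + v ⟨1, hn⟩ else v k
  invFun v := fun k => if k.val = 0 then v ⟨0, Nat.lt_of_lt_of_le Nat.zero_lt_two hn⟩ + v ⟨1, hn⟩ else if k.val = 1 then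
    v ⟨0, Nat.lt_of_lt_of_le Nat.zero_lt_two hn⟩ else v k
  left_inv v := funext fun k => by
    by_cases h0 : k.val = 0
    · obtain rfl : k = ⟨0, Nat.lt_of_lt_of_le Nat.zero_lt_two hn⟩ := Fin.ext h0
      simp [add_comm (v ⟨0, _⟩), ← add_assoc, CharTwo.add_self_eq_zero]
    · by_cases h1 : k.val = 1
      · obtain rfl : k = ⟨1, hn⟩ := Fin.ext h1
        simp
      · simp [h0, h1]
  right_inv v := funext fun k => by
    by_cases h0 : k.val = 0
    · obtain rfl : k = ⟨0, Nat.lt_of_lt_of_le Nat.zero_lt_two hn⟩ := Fin.ext h0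
      simp
    · by_cases h1 : k.val = 1
      · obtain rfl : k = ⟨1, hn⟩ := Fin.ext h1
        simp [add_comm (v ⟨0, _⟩) (v ⟨1, hn⟩), add_assoc, CharTwo.add_self_eq_zero]
      · simp [h0, h1]

theorem triPerm_cube {n : ℕ} (hn : 2 ≤ n) : triPerm hn ^ 3 = 1 := by
  refine Equiv.ext fun v => funext fun k => ?_
  show triPerm hn (triPerm hn (triPerm hn v)) k = v k
  by_cases h0 : k.val = 0
  · obtain rfl : k = ⟨0, Nat.lt_of_lt_of_le Nat.zero_lt_two hn⟩ := Fin.ext h0
    simp [triPerm, add_comm (v ⟨0, _⟩) (v ⟨1, hn⟩), ← add_assoc, CharTwo.add_self_eq_zero]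
  · by_cases h1 : k.val = 1
    · obtain rfl : k = ⟨1, hn⟩ := Fin.ext h1
      simp [triPerm]
      have h : ∀ a b : ZMod 2, a + b + (b + (a + b)) = b := by decide
      exact h _ _
    · simp [triPerm, h0, h1]

theorem triPerm_ne {n : ℕ} (hn : 2 ≤ n) : triPerm hn ≠ 1 := by
  intro h
  have := congrFun (Equiv.ext_iff.1 h (Pi.single (⟨1, hn⟩ : Fin n) 1)) ⟨0, Nat.lt_of_lt_of_le Nat.zero_lt_two hn⟩
  simp [triPerm] at this

theorem triPerm_trans {n : ℕ} (hn : 2 ≤ n) (a : Fin n → ZMod 2) :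
    triPerm hn * transHom n (Multiplicative.ofAdd a) * (triPerm hn)⁻¹ =
      transHom n (Multiplicative.ofAdd (triPerm hn a)) := by
  rw [mul_inv_eq_iff_eq_mul]
  refine Equiv.ext fun v => funext fun k => ?_
  show triPerm hn (v + a) k = (triPerm hn v + triPerm hn a) k
  simp only [triPerm, Equiv.coe_fn_mk, Pi.add_apply]
  split_ifs <;> ring

theorem three_sum : ∀ o : Fin 3, ∑ i, (if i = o then (0 : ZMod 2) else 1) = 0 := by decide

theorem three_ne : ∀ o : Fin 3, (fun i => if i = o then (0 : ZMod 2) else 1) ≠ 0 := by decide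

theorem three_orbit : ∀ (ρ : Equiv.Perm (Fin 3)) (o : Fin 3), Equiv.Perm.sign ρ = 1 → ρ ≠ 1 →
    (fun i => if i = o then (0 : ZMod 2) else 1) ≠ (fun i => if ρ⁻¹ i = o then 0 else 1) ∧
    (∀ i, (if ρ⁻¹ (ρ⁻¹ i) = o then (0 : ZMod 2) else 1) =
      (if i = o then 0 else 1) + if ρ⁻¹ i = o then 0 else 1) := by decide

set_option synthInstance.maxSize 1024 in
theorem three_span : ∀ (ρ : Equiv.Perm (Fin 3)) (o : Fin 3) (f : Fin 3 → ZMod 2),
    Equiv.Perm.sign ρ = 1 → ρ ≠ 1 → ∑ i, f i = 0 →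
    f = (fun _ => 0) ∨ f = (fun i => if i = o then 0 else 1) ∨
      f = (fun i => if ρ⁻¹ i = o then 0 else 1) ∨
      f = fun i => (if i = o then 0 else 1) + if ρ⁻¹ i = o then 0 else 1 := by decide

set_option synthInstance.maxSize 1024 in
theorem three_fixed : ∀ (τ : Equiv.Perm (Fin 3)) (o : Fin 3) (f : Fin 3 → ZMod 2), τ ≠ 1 →
    τ o = o → ∑ i, f i = 0 → (∀ i, f (τ⁻¹ i) = f i) →
    f = (fun _ => 0) ∨ f = fun i => if i = o then 0 else 1 := by decide

theorem three_gen : ∀ (ρ τ : Equiv.Perm (Fin 3)), Equiv.Perm.sign ρ = 1 → ρ ≠ 1 →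
    Equiv.Perm.sign τ = 1 → τ = 1 ∨ τ = ρ ∨ τ = ρ * ρ := by decide

variable {G : Type u} [Group G] [Finite G] (hG : centralizer (Cfsg.pCore 2 G : Set G) ≤ Cfsg.pCore 2 G)
  (T : Sylow 2 G) {E : Subgroup G} (hE : SBlock 2 E) {m : ℕ} (r : SymMod 2 E m)
  (hbot : bWE 2 E ⊓ centralizer (E : Set G) = ⊥)
  (hTE : (T : Subgroup G) ≤ normalizer (E : Set G))

include hbot in
theorem psi_injective : Function.Injective r.ψ := by
  refine (injective_iff_map_eq_one _).2 fun u hu => Subtype.ext ?_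
  exact mem_bot.1 (hbot.le ⟨u.2, (r.ker u).1 hu⟩)

include hG hE in
theorem ker_mem_WE {e : G} (he : e ∈ E) (h : e ∈ centralizer (bWE 2 E : Set G)) : e ∈ bWE 2 E := by
  haveI : Fact (Nat.Prime 2) := ⟨Nat.prime_two⟩
  rw [← Degree.bQ_eq_WE hE]
  exact Baumann.Sub.mem_bQ_of_centralizes hG hE he h

theorem spec_apply (x : ↥(normalizer (E : Set G))) (u : ↥(bWE 2 E)) (i : Fin (2 * m + 1)) :
    Multiplicative.toAdd (r.ψ ⟨(x : G) * u * (x : G)⁻¹,
      (mem_normalizer_iff.1 (normalizer_le_normalizer_WE E x.2) _).1 u.2⟩) i =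
      Multiplicative.toAdd (r.ψ u) ((r.π x)⁻¹ i) :=
  r.spec x u _ rfl i

include hbot in
/-- Equality is decided by the coordinates. -/
theorem conj_eq_iff (x : ↥(normalizer (E : Set G))) (u w : ↥(bWE 2 E)) :
    (x : G) * u * (x : G)⁻¹ = w ↔
      ∀ i, Multiplicative.toAdd (r.ψ w) i = Multiplicative.toAdd (r.ψ u) ((r.π x)⁻¹ i) := by
  refine ⟨fun h i => r.spec x u w h.symm i, fun h => ?_⟩
  have e : (⟨(x : G) * u * (x : G)⁻¹,
      (mem_normalizer_iff.1 (normalizer_le_normalizer_WE E x.2) _).1 u.2⟩ : ↥(bWE 2 E)) = w :=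
    psi_injective r hbot (Multiplicative.toAdd.injective (funext fun i => by
      rw [spec_apply, h]))
  exact congrArg Subtype.val e

include hG hE in
/-- An element of the block with image of order three has a multiple of order three. -/
theorem exists_cube {σ : Equiv.Perm (Fin (2 * m + 1))} (hσA : σ ∈ alternatingGroup (Fin (2 * m + 1)))
    (h3 : σ ^ 3 = 1) (h1 : σ ≠ 1) : ∃ (x : G) (hx : x ∈ E) (k : ℕ), x ^ 3 = 1 ∧
      r.π ⟨x, Subgroup.le_normalizer hx⟩ = σ ^ k ∧ σ ^ k ≠ 1 := by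
  haveI : Fact (Nat.Prime 2) := ⟨Nat.prime_two⟩
  obtain ⟨⟨e, he'⟩, he, hee⟩ := r.image.ge hσA
  have he1 : e ∈ E := mem_subgroupOf.1 he
  have hW : e ^ 3 ∈ bWE 2 E := ker_mem_WE hG hE (pow_mem he1 3) ((r.triv ⟨e ^ 3, pow_mem he' 3⟩).1 (by
    rw [show (⟨e ^ 3, pow_mem he' 3⟩ : ↥(normalizer (E : Set G))) = ⟨e, he'⟩ ^ 3 from rfl,
      map_pow, hee, h3]))
  obtain ⟨a, ha⟩ := (Baumann.Sub.bW_pgroup E).to_le (Baumann.Sub.WE_le_bW hE) ⟨e ^ 3, hW⟩
  have ha' : (e ^ 3) ^ 2 ^ a = 1 := congrArg Subtype.val ha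
  refine ⟨e ^ 2 ^ a, pow_mem he1 _, 2 ^ a, by rw [← pow_mul, mul_comm, pow_mul, ha'], ?_, fun h => h1 ?_⟩
  · rw [← hee, ← map_pow]
    rfl
  · have ho : orderOf σ ∣ Nat.gcd 3 (2 ^ a) :=
      Nat.dvd_gcd (orderOf_dvd_of_pow_eq_one h3) (orderOf_dvd_of_pow_eq_one h)
    rw [Nat.Coprime.gcd_eq_one (Nat.Coprime.pow_right a (by decide)), Nat.dvd_one] at ho
    exact orderOf_eq_one_iff.1 ho

include hG hE r hbot hTE

/-- An alternating block of degree `2 ^ n + 1 ≥ 5` has the symmetric kind. -/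
theorem sym_kind {n : ℕ} (hn : 2 ≤ n) (hm : 2 * m = 2 ^ n) :
    SymKind (T : Subgroup G) E (bWE 2 E) := by
  classical
  haveI : Fact (Nat.Prime 2) := ⟨Nat.prime_two⟩
  have hWT : bWE 2 E ≤ (T : Subgroup G) :=
    ((Baumann.Sub.WE_le_gV hG hE).trans Baumann.Sub.gV_le).trans (Core.pCore_le_sylow T)
  set A := alternatingGroup (Fin (2 * m + 1)) with hA
  let f : ↥E →* ↥A := (r.π.comp (inclusion Subgroup.le_normalizer)).codRestrict _ fun e =>
    r.image.le ⟨inclusion Subgroup.le_normalizer e, e.2, rfl⟩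
  have hf : Function.Surjective f := fun a => by
    obtain ⟨e, he, hee⟩ := r.image.ge a.2
    exact ⟨⟨e, he⟩, Subtype.ext hee⟩
  set S₀ : Subgroup ↥E := (T : Subgroup G).subgroupOf E
  have hP₀p : IsPGroup 2 (S₀.map f) :=
    (T.isPGroup'.comap_of_injective E.subtype E.subtype_injective).map f
  have hidx : ¬ 2 ∣ (S₀.map f).index := fun h =>
    LocalStructure.not_dvd_relIndex_subnormal T hE.2 (h.trans (index_map_dvd _ hf))
  -- the translations
  let last : Fin (2 * m + 1) := Fin.last (2 * m)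
  have hcard : Fintype.card (Fin n → ZMod 2) = Fintype.card {i : Fin (2 * m + 1) // i ≠ last} := by
    rw [Fintype.card_subtype_compl, Fintype.card_subtype_eq, Fintype.card_fin, Fintype.card_fun,
      Fintype.card_fin, ZMod.card]
    omega
  let e := Fintype.equivOfCardEq hcard
  let ext := Equiv.Perm.extendDomainHom e
  have hA1 : ∀ a : Multiplicative (Fin n → ZMod 2), ext (transHom n a) ∈ A := fun a => by
    rw [hA, Equiv.Perm.mem_alternatingGroup]
    show Equiv.Perm.sign (Equiv.Perm.extendDomain _ e) = 1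
    rw [Equiv.Perm.sign_extendDomain]
    exact sign_transHom hn a.toAdd
  let τ : Multiplicative (Fin n → ZMod 2) →* ↥A := (ext.comp (transHom n)).codRestrict _ hA1
  have hτp : IsPGroup 2 τ.range := by
    rintro ⟨_, a, rfl⟩
    refine ⟨1, Subtype.ext ?_⟩
    show τ a ^ 2 ^ 1 = 1
    rw [← map_pow, show a ^ 2 ^ 1 = 1 from Multiplicative.toAdd.injective (funext fun i => by
      rw [pow_one, pow_two, toAdd_mul, Pi.add_apply, CharTwo.add_self_eq_zero, toAdd_one,
        Pi.zero_apply]), map_one]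
  obtain ⟨Q, hQ⟩ := hτp.exists_le_sylow
  obtain ⟨g, hg⟩ := MulAction.exists_smul_eq ↥A Q (hP₀p.toSylow hidx)
  have hτP : ∀ a, g * τ a * g⁻¹ ∈ S₀.map f := fun a => by
    have h : g * τ a * g⁻¹ ∈ ((g • Q : Sylow 2 ↥A) : Subgroup ↥A) := by
      rw [Sylow.coe_subgroup_smul]
      exact ⟨τ a, hQ ⟨a, rfl⟩, rfl⟩
    rw [hg] at h
    exact h
  set gp : Equiv.Perm (Fin (2 * m + 1)) := (g : Equiv.Perm (Fin (2 * m + 1))) with hgp
  have hcoe : ∀ a, ((g * τ a * g⁻¹ : ↥A) : Equiv.Perm (Fin (2 * m + 1))) =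
      gp * ext (transHom n a) * gp⁻¹ := fun a => rfl
  set o := gp last with ho
  -- elements of `T` with the translations as images
  have hTr : ∀ a, ∃ s : ↥(normalizer (E : Set G)), (s : G) ∈ (T : Subgroup G) ∧ (s : G) ∈ E ∧
      r.π s = gp * ext (transHom n a) * gp⁻¹ := by
    intro a
    obtain ⟨s, hs, hse⟩ := hτP a
    exact ⟨inclusion Subgroup.le_normalizer s, hs, s.2,
      (congrArg Subtype.val hse).trans (hcoe a)⟩
  -- vectors fixed by the translations
  have hconst : ∀ w : ↥(bWE 2 E),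
      (∀ a, ∀ i, Multiplicative.toAdd (r.ψ w) ((gp * ext (transHom n a) * gp⁻¹) i) =
        Multiplicative.toAdd (r.ψ w) i) →
      ∃ c : ZMod 2, ∀ i, Multiplicative.toAdd (r.ψ w) i = if i = o then 0 else c := by
    intro w hw
    set v := Multiplicative.toAdd (r.ψ w) with hv
    refine ⟨v (gp (e 0).1), ?_⟩
    have hother : ∀ i, i ≠ o → v i = v (gp (e 0).1) := by
      intro i hi
      have hi' : gp⁻¹ i ≠ last := fun h => hi (by rw [ho, ← h]; simp)
      set a := e.symm ⟨gp⁻¹ i, hi'⟩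
      have h := hw (Multiplicative.ofAdd a) (gp (e 0).1)
      rw [Equiv.Perm.mul_apply, Equiv.Perm.mul_apply,
        show gp⁻¹ (gp (e 0).1) = (e 0).1 from gp.symm_apply_apply _,
        show ext (transHom n (Multiplicative.ofAdd a)) (e 0).1 = gp⁻¹ i by
          show Equiv.Perm.extendDomain _ e (e 0 : {i // i ≠ last}) = _
          rw [Equiv.Perm.extendDomain_apply_image, transHom_apply, zero_add, Equiv.apply_symm_apply],
        show gp (gp⁻¹ i) = i from gp.apply_symm_apply _] at h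
      exact h
    intro i
    by_cases hi : i = o
    · rw [if_pos hi]
      subst hi
      have hsum := r.even w
      rw [← hv, ← Finset.add_sum_erase _ _ (Finset.mem_univ o),
        Finset.sum_congr rfl fun j hj => hother j (Finset.ne_of_mem_erase hj), Finset.sum_const,
        Finset.card_erase_of_mem (Finset.mem_univ o), Finset.card_univ, Fintype.card_fin,
        Nat.add_sub_cancel, nsmul_eq_mul, Nat.cast_mul,
        show ((2 : ℕ) : ZMod 2) = 0 from ZMod.natCast_self 2, zero_mul, zero_mul, add_zero] at hsum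
      exact hsum
    · rw [if_neg hi]
      exact hother i hi
  -- the translations as a subgroup of `T ⊓ E`
  let V : Subgroup (Equiv.Perm (Fin (2 * m + 1))) :=
    ((ext.comp (transHom n)).range).map (MulEquiv.toMonoidHom (MulAut.conj gp))
  let P : Subgroup G := ((E.subgroupOf (normalizer (E : Set G))) ⊓ V.comap r.π).map
    (normalizer (E : Set G)).subtype
  have hPT : P ≤ (T : Subgroup G) ⊓ E := by
    rintro _ ⟨y, ⟨hyE, hyV⟩, rfl⟩
    refine ⟨?_, hyE⟩
    obtain ⟨_, ⟨a, rfl⟩, ha⟩ := hyV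
    obtain ⟨s, hsT, hsE, hse⟩ := hTr a
    have h1 : r.π (s⁻¹ * y) = 1 := by
      rw [map_mul, map_inv, hse, ← ha]
      exact inv_mul_cancel _
    have h2 : ((s⁻¹ * y : ↥(normalizer (E : Set G))) : G) ∈ (T : Subgroup G) :=
      hWT (ker_mem_WE hG hE (mul_mem (inv_mem hsE) hyE) ((r.triv _).1 h1))
    have := mul_mem hsT h2
    rwa [Subgroup.coe_mul, Subgroup.coe_inv, mul_inv_cancel_left] at this
  have hPmem : ∀ a, ∃ s : ↥(normalizer (E : Set G)), (s : G) ∈ P ∧
      r.π s = gp * ext (transHom n a) * gp⁻¹ := fun a => by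
    obtain ⟨s, -, hsE, hse⟩ := hTr a
    exact ⟨s, ⟨s, ⟨hsE, ⟨_, ⟨a, rfl⟩, hse.symm⟩⟩, rfl⟩, hse⟩
  have hfixP : ∀ w : ↥(bWE 2 E), (w : G) ∈ centralizer (P : Set G) →
      ∃ c : ZMod 2, ∀ i, Multiplicative.toAdd (r.ψ w) i = if i = o then 0 else c := by
    intro w hw
    refine hconst w fun a i => ?_
    obtain ⟨s, hsP, hse⟩ := hPmem a
    have h := (conj_eq_iff r hbot s w w).1 (by
      rw [mem_centralizer_iff.1 hw _ hsP, mul_inv_cancel_right]) ((r.π s) i)
    rw [show (r.π s)⁻¹ (r.π s i) = i from (r.π s).symm_apply_apply i, hse] at h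
    exact h
  -- the element of order three
  have hσA : ext (triPerm hn) ∈ A := by
    rw [hA, Equiv.Perm.mem_alternatingGroup]
    show Equiv.Perm.sign (Equiv.Perm.extendDomain _ e) = 1
    rw [Equiv.Perm.sign_extendDomain]
    have h2 : ∀ s : ℤˣ, s ^ 3 = 1 → s = 1 := by decide
    exact h2 _ (by rw [← map_pow, triPerm_cube, map_one])
  set σ := gp * ext (triPerm hn) * gp⁻¹ with hσ
  have hσA' : σ ∈ A := mul_mem (mul_mem g.2 hσA) (inv_mem g.2)
  have hσ3 : σ ^ 3 = 1 := by rw [hσ, conj_pow, ← map_pow, triPerm_cube, map_one, mul_one, mul_inv_cancel]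
  have hσ1 : σ ≠ 1 := fun h => triPerm_ne hn (Equiv.Perm.extendDomainHom_injective e (by
    rw [map_one]
    have h' := congrArg (fun z => gp⁻¹ * z * gp) h
    simpa [hσ, mul_assoc, ext] using h'))
  obtain ⟨x, hxE, k, hx3, hxπ, hk1⟩ := exists_cube hG hE r hσA' hσ3 hσ1
  set x' : ↥(normalizer (E : Set G)) := ⟨x, Subgroup.le_normalizer hxE⟩ with hx'
  have hσo : (σ ^ k) o = o := by
    have h1 : σ o = o := by
      rw [hσ, ho, Equiv.Perm.mul_apply, Equiv.Perm.mul_apply,
        show gp⁻¹ (gp last) = last from gp.symm_apply_apply _]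
      show gp (Equiv.Perm.extendDomain _ e last) = _
      rw [Equiv.Perm.extendDomain_apply_not_subtype _ _ (fun h => h rfl)]
    exact Equiv.Perm.pow_apply_eq_self_of_apply_eq_self h1 k
  refine ⟨⟨hbot, fun a ha b hb ha1 hb1 haR hbR => ?_⟩, x, P, hxE, hx3, ?_, hPT, ?_, ?_⟩
  · have hPc : ∀ c ∈ centralizer ((T : Subgroup G) : Set G), c ∈ centralizer (P : Set G) :=
      fun c hc => centralizer_le (hPT.trans inf_le_left) hc
    obtain ⟨c, hc⟩ := hfixP ⟨a, ha⟩ (hPc a haR)
    obtain ⟨d, hd⟩ := hfixP ⟨b, hb⟩ (hPc b hbR)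
    have hne : ∀ {u : ↥(bWE 2 E)} {c : ZMod 2}, (u : G) ≠ 1 →
        (∀ i, Multiplicative.toAdd (r.ψ u) i = if i = o then 0 else c) → c = 1 := by
      intro u c hu hc
      refine (zmod_two_cases c).resolve_left fun h0 => hu ?_
      subst h0
      have : r.ψ u = r.ψ 1 := Multiplicative.toAdd.injective (funext fun i => by
        rw [hc, map_one, toAdd_one]; simp)
      exact congrArg Subtype.val (psi_injective r hbot this)
    have e : r.ψ ⟨a, ha⟩ = r.ψ ⟨b, hb⟩ := Multiplicative.toAdd.injective (funext fun i => by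
      rw [hc, hd, hne ha1 hc, hne hb1 hd])
    exact congrArg Subtype.val (psi_injective r hbot e)
  · intro h
    exact hk1 (hxπ ▸ (r.triv x').2 h)
  · refine Subgroup.mem_normalizer_fintype (S := (P : Set G)) ?_
    rintro _ ⟨y, ⟨hyE, hyV⟩, rfl⟩
    refine ⟨x' * y * x'⁻¹, ⟨mem_subgroupOf.2 (mul_mem (mul_mem hxE hyE) (inv_mem hxE)), ?_⟩, rfl⟩
    show r.π (x' * y * x'⁻¹) ∈ V
    rw [map_mul, map_mul, map_inv, hxπ]
    have hV : ∀ j : ℕ, ∀ z ∈ V, σ ^ j * z * (σ ^ j)⁻¹ ∈ V := by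
      intro j
      induction j with
      | zero => intro z hz; simpa using hz
      | succ j ih =>
        intro z hz
        rw [pow_succ', show σ * σ ^ j * z * (σ * σ ^ j)⁻¹ = σ * (σ ^ j * z * (σ ^ j)⁻¹) * σ⁻¹ by group]
        obtain ⟨_, ⟨a, rfl⟩, ha⟩ := ih z hz
        refine ⟨_, ⟨Multiplicative.ofAdd (triPerm hn a.toAdd), rfl⟩, ?_⟩
        rw [← ha, hσ]
        show gp * ext (transHom n _) * gp⁻¹ = _ * (gp * ext (transHom n a) * gp⁻¹) * _
        rw [← triPerm_trans hn a.toAdd, map_mul, map_mul, map_inv, ofAdd_toAdd]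
        group
    exact hV k _ hyV
  · rintro w ⟨hw, hwP⟩
    obtain ⟨c, hc⟩ := hfixP ⟨w, hw⟩ hwP
    refine mem_centralizer_singleton_iff.2 ?_
    have h := (conj_eq_iff r hbot x' ⟨w, hw⟩ ⟨w, hw⟩).2 fun i => by
      rw [hxπ, hc, hc]
      have hio : ((σ ^ k)⁻¹ i = o) ↔ i = o :=
        ⟨fun h => by rw [Equiv.Perm.inv_eq_iff_eq, hσo] at h; exact h, fun h => by
          rw [Equiv.Perm.inv_eq_iff_eq, hσo, h]⟩
      simp only [hio]
    exact (mul_inv_eq_iff_eq_mul.1 h).symm

/-- A block of degree three has the kind three. -/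
theorem three_kind (hm : m = 1)
    (hmov : ∃ t ∈ (T : Subgroup G), t ∉ centralizer (bWE 2 E : Set G)) :
    ThreeKind (T : Subgroup G) E (bWE 2 E) := by
  classical
  subst hm
  haveI : Fact (Nat.Prime 2) := ⟨Nat.prime_two⟩
  set N := normalizer (E : Set G) with hN
  set Kp := ((T : Subgroup G).subgroupOf N).map r.π with hKp
  have hKpp : IsPGroup 2 Kp :=
    (T.isPGroup'.comap_of_injective N.subtype N.subtype_injective).map r.π
  obtain ⟨o, ho⟩ := hKpp.nonempty_fixed_point_of_prime_not_dvd_card (Fin (2 * 1 + 1))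
    (by rw [Nat.card_fin]; omega)
  have ho : ∀ y ∈ Kp, y o = o := fun y hy => ho ⟨y, hy⟩
  obtain ⟨t, htT, htC⟩ := hmov
  set t' : ↥N := ⟨t, hTE htT⟩
  have ht1 : r.π t' ≠ 1 := fun h => htC ((r.triv _).1 h)
  have hto : r.π t' o = o := ho _ ⟨t', htT, rfl⟩
  let σ : Equiv.Perm (Fin (2 * 1 + 1)) := finRotate 3
  obtain ⟨x, hxE, k, hx3, hxπ, hk1⟩ := exists_cube hG hE r (σ := σ)
    (by rw [Equiv.Perm.mem_alternatingGroup]; decide) (by decide) (by decide)
  set x' : ↥N := ⟨x, Subgroup.le_normalizer hxE⟩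
  set ξ := σ ^ k with hξ
  have hξA : ξ ∈ alternatingGroup (Fin (2 * 1 + 1)) := pow_mem (by
    rw [Equiv.Perm.mem_alternatingGroup]; decide) k
  set v : Fin (2 * 1 + 1) → ZMod 2 := fun i => if i = o then 0 else 1 with hv
  obtain ⟨l, hl⟩ := r.onto v (three_sum o)
  have hxW : x ∈ normalizer (bWE 2 E : Set G) :=
    normalizer_le_normalizer_WE E (Subgroup.le_normalizer hxE)
  set mm : ↥(bWE 2 E) := ⟨x * l * x⁻¹, (mem_normalizer_iff.1 hxW _).1 l.2⟩ with hmm
  have hmv : ∀ i, Multiplicative.toAdd (r.ψ mm) i = v (ξ⁻¹ i) := fun i => by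
    rw [r.spec x' l mm rfl, hxπ, hl]
  obtain ⟨k1, k2⟩ := three_orbit ξ o (Equiv.Perm.mem_alternatingGroup.1 hξA) hk1
  have hinj := psi_injective r hbot
  have hext : ∀ {a b : ↥(bWE 2 E)},
      (∀ i, Multiplicative.toAdd (r.ψ a) i = Multiplicative.toAdd (r.ψ b) i) → (a : G) = b :=
    fun h => congrArg Subtype.val (hinj (Multiplicative.toAdd.injective (funext h)))
  have hl1 : (l : G) ≠ 1 := fun h => by
    have e := congrArg (fun u => Multiplicative.toAdd (r.ψ u)) (show l = 1 from Subtype.ext h)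
    simp only [map_one, toAdd_one, hl] at e
    exact three_ne o e
  have hlm : (l : G) ≠ mm := fun h => k1 (funext fun i => by
    have e := congrArg (fun u => Multiplicative.toAdd (r.ψ u) i) (show l = mm from Subtype.ext h)
    simpa [hl, hmv, hv] using e)
  have hlR : (l : G) ∈ centralizer ((T : Subgroup G) : Set G) := by
    refine mem_centralizer_iff.2 fun s hs => mul_inv_eq_iff_eq_mul.1 ?_
    refine (conj_eq_iff r hbot ⟨s, hTE hs⟩ l l).2 fun i => ?_
    have h : (r.π ⟨s, hTE hs⟩)⁻¹ i = o ↔ i = o := by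
      have e := ho _ ⟨⟨s, hTE hs⟩, hs, rfl⟩
      exact ⟨fun h => by rw [Equiv.Perm.inv_eq_iff_eq, e] at h; exact h, fun h => by
        rw [Equiv.Perm.inv_eq_iff_eq, e, h]⟩
    simp only [hl, hv, h]
  refine ⟨⟨hbot, fun a ha b hb ha1 hb1 haR hbR => ?_⟩, x, l, mm, ⟨hxE, hx3, l.2, mm.2, hl1, ?_,
    hlm, fun w hw => ?_, rfl, ?_, hlR, fun e he => ?_⟩⟩
  · have hu : ∀ c (hc : c ∈ bWE 2 E), c ≠ 1 → c ∈ centralizer ((T : Subgroup G) : Set G) →
        c = l := by
      intro c hc hc1 hcR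
      rcases three_fixed (r.π t') o (Multiplicative.toAdd (r.ψ ⟨c, hc⟩)) ht1 hto (r.even _)
        (fun i => ((conj_eq_iff r hbot t' ⟨c, hc⟩ ⟨c, hc⟩).1 (by
          show t * c * t⁻¹ = c
          rw [mem_centralizer_iff.1 hcR t htT, mul_inv_cancel_right]) i).symm) with h | h
      · exact absurd (hext (a := ⟨c, hc⟩) (b := 1) fun i => by rw [h, map_one]; rfl) hc1
      · exact hext (a := ⟨c, hc⟩) fun i => by rw [h, hl]
    rw [hu a ha ha1 haR, hu b hb hb1 hbR]
  · intro h
    refine hl1 ?_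
    have h' : x * (l : G) * x⁻¹ = 1 := h
    calc (l : G) = x⁻¹ * (x * l * x⁻¹) * x := by group
      _ = 1 := by rw [h']; group
  · rcases three_span ξ o (Multiplicative.toAdd (r.ψ ⟨w, hw⟩)) (Equiv.Perm.mem_alternatingGroup.1 hξA)
      hk1 (r.even _) with h | h | h | h
    · exact Or.inl (hext (a := ⟨w, hw⟩) (b := 1) fun i => by rw [h, map_one]; rfl)
    · exact Or.inr (Or.inl (hext (a := ⟨w, hw⟩) fun i => by rw [h, hl]))
    · exact Or.inr (Or.inr (Or.inl (hext (a := ⟨w, hw⟩) fun i => by rw [h, hmv])))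
    · refine Or.inr (Or.inr (Or.inr ?_))
      rw [show (l : G) * (mm : G) = ((l * mm : ↥(bWE 2 E)) : G) from rfl]
      exact hext (a := ⟨w, hw⟩) fun i => by rw [h, map_mul, toAdd_mul, Pi.add_apply, hl, hmv]
  · refine (conj_eq_iff r hbot x' mm (l * mm)).2 fun i => ?_
    rw [hxπ, map_mul, toAdd_mul, Pi.add_apply, hl, hmv, hmv]
    exact (k2 i).symm
  · set e' : ↥N := ⟨e, Subgroup.le_normalizer he⟩
    have hs : Equiv.Perm.sign (r.π e') = 1 :=
      Equiv.Perm.mem_alternatingGroup.1 (r.image.le ⟨e', he, rfl⟩)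
    obtain ⟨j, hj⟩ : ∃ j : ℕ, r.π e' = ξ ^ j := by
      rcases three_gen ξ (r.π e') (Equiv.Perm.mem_alternatingGroup.1 hξA) hk1 hs with h | h | h
      · exact ⟨0, by rw [h, pow_zero]⟩
      · exact ⟨1, by rw [h, pow_one]⟩
      · exact ⟨2, by rw [h, pow_two]⟩
    refine ⟨e * (x ^ j)⁻¹, ker_mem_WE hG hE (mul_mem he (inv_mem (pow_mem hxE j))) ?_, j, by group⟩
    have := (r.triv (e' * (x' ^ j)⁻¹)).1 (by
      rw [map_mul, map_inv, map_pow, hxπ, hj, mul_inv_cancel])
    exact this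

end Cfsg.Agent.QtkePush
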