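import Cfsg.Agent.QtkePush.KindLin
import Cfsg.Agent.QtkePush.KindPerm
import Cfsg.Agent.LocalCGT.DegreeAltRep

/-!
# The kind of a block normalised by a Sylow subgroup
-/

set_option autoImplicit false
set_option linter.unusedSectionVars false
set_option linter.style.haveILetI false

namespace Cfsg.Agent.QtkePush

open Subgroup LocalCGT
open Baumann.Sub (SBlock bW bWE bZ bQ)
open scoped commutatorElement

universe u

variable {G : Type u} [Group G] [Finite G] (hG : centralizer (Cfsg.pCore 2 G : Set G) ≤ Cfsg.pCore 2 G)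
  (T : Sylow 2 G) {E : Subgroup G} (hblk : Cfsg.IsBaumannBlock 2 (T : Subgroup G) E)
  (hout : ¬ E ≤ Cfsg.cStarOf 2 (T : Subgroup G)) (hsub : E.IsSubnormal)
  (hdeg : ∀ m : ℕ, Nonempty (↥E ⧸ Cfsg.pCore 2 ↥E ≃* ↥(alternatingGroup (Fin (2 * m + 1)))) →
    ∃ n : ℕ, 2 * m + 1 = 2 ^ n + 1)
  (hTE : (T : Subgroup G) ≤ normalizer (E : Set G))

include hG hblk hsub hTE

/-- The common facts. -/
theorem base_of_block : Base (T : Subgroup G) E (bWE 2 E) := by
  haveI : Fact (Nat.Prime 2) := ⟨Nat.prime_two⟩
  have hE : SBlock 2 E := ⟨⟨T, hblk⟩, hsub⟩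
  exact
    { hWR := ((Baumann.Sub.WE_le_gV hG hE).trans Baumann.Sub.gV_le).trans (Core.pCore_le_sylow T)
      hWE := Degree.WE_le_E hE
      hEW := Baumann.Sub.le_normalizer_WE hE
      hRE := hTE
      hRW := hTE.trans (normalizer_le_normalizer_WE E)
      comm := fun d hd hdW e he => Degree.commutator_centralizes hG hE (hTE hd) hdW he
      ne := Baumann.Sub.WE_ne hG hE }

include hout hdeg

/-- The three kinds. -/
theorem kind_of_block : Kind (T : Subgroup G) E (bWE 2 E) := by
  classical
  haveI : Fact (Nat.Prime 2) := ⟨Nat.prime_two⟩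
  have hE : SBlock 2 E := ⟨⟨T, hblk⟩, hsub⟩
  have hmov : ∃ t ∈ (T : Subgroup G), t ∉ centralizer (bWE 2 E : Set G) := by
    obtain ⟨A, -, hAT, hA⟩ := Degree.exists_moving hG hE T
    obtain ⟨a, ha, hac⟩ := SetLike.not_le_iff_exists.1 hA
    exact ⟨a, hAT ha, hac⟩
  rcases hblk.2.2.2.2 with ⟨K, iK, iKt, n, hn, hiso, hact, -⟩ | ⟨-, m, hiso, hact, -⟩
  · obtain ⟨r⟩ := exists_linMod hG hblk hout hn hact
    by_cases h3 : 3 ≤ Fintype.card K
    · exact Or.inl (lin_kind hG T hE hTE hn h3 r)
    have hK : Fintype.card K = 2 := by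
      have := Fintype.one_lt_card (α := K)
      omega
    obtain ⟨rs⟩ := r.toSym hK hblk fun x hx ht => centralizes_of_trivOn' hG hblk hout hx ht
    have hbot : bWE 2 E ⊓ centralizer (E : Set G) = ⊥ := by
      refine Baumann.Sub.bot_of_three hG hE rfl ((Nat.card_congr hiso.some.toEquiv).trans ?_)
      obtain ⟨h1, h3, h4, h5⟩ := Baumann.Sub.sl2_facts
      have e' : K ≃+* ZMod 2 := FiniteField.ringEquivOfCardEq (by rw [ZMod.card]; exact hK)
      exact (Baumann.Sub.card_commutator_congr (Baumann.Sub.slEquiv e')).trans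
        (Baumann.Sub.card_commutator_small h1 h3 h4 h5).1
    exact Or.inr (Or.inr (three_kind hG T hE rs hbot hTE rfl hmov))
  · have hm : 1 ≤ m := by
      by_contra hm
      obtain rfl : m = 0 := by omega
      refine hE.ne_bQ (le_antisymm (Baumann.Sub.bQ_le E) fun e he => ?_)
      obtain ⟨φ⟩ := hiso
      haveI : Subsingleton (↥E ⧸ Cfsg.pCore 2 ↥E) := by
        haveI : Subsingleton (Equiv.Perm (Fin (2 * 0 + 1))) :=
          inferInstanceAs (Subsingleton (Equiv.Perm (Fin 1)))
        exact φ.toEquiv.subsingleton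
      exact ⟨⟨e, he⟩, (QuotientGroup.eq_one_iff _).1 (Subsingleton.elim _ _), rfl⟩
    obtain ⟨d⟩ := Degree.exists_altRep hG hE hm hiso hact
    have hWW : bW 2 E = bWE 2 E := Degree.bW_eq_WE hE
    have hbot : bWE 2 E ⊓ centralizer (E : Set G) = ⊥ := by
      rcases Nat.lt_or_ge m 2 with h | h
      · obtain rfl : m = 1 := by omega
        refine Baumann.Sub.bot_of_three hG hE rfl ((Nat.card_congr hiso.some.toEquiv).trans ?_)
        rw [nat_card_alternatingGroup]
        simp [Nat.factorial]
      · exact Baumann.Sub.alt_split hG hE rfl h hiso hact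
    let ι : ↥(bWE 2 E) →* ↥(bW 2 E) := inclusion hWW.ge
    let rs : SymMod 2 E m :=
      { ψ := d.ψ.comp ι
        π := d.P
        even := fun u => d.even _
        onto := fun v hv => by
          obtain ⟨u, hu⟩ := d.surj v hv
          exact ⟨inclusion hWW.le u, hu⟩
        ker := fun u => by
          constructor
          · intro h
            have h1 : ι u = 1 := d.inj (by rw [map_one]; exact h)
            rw [show (u : G) = ((ι u : ↥(bW 2 E)) : G) from rfl, h1]
            exact one_mem _
          · intro h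
            have h1 : u = 1 := Subtype.ext (mem_bot.1 (hbot.le ⟨u.2, h⟩))
            rw [h1, map_one]
        spec := fun x u w h i => d.spec x (ι u) (ι w) h i
        image := d.image
        triv := d.ker }
    rcases Nat.lt_or_ge m 2 with h | h
    · exact Or.inr (Or.inr (three_kind hG T hE rs hbot hTE (by omega) hmov))
    · obtain ⟨n, hn⟩ := hdeg m hiso
      have hn2 : 2 ≤ n := by
        by_contra hlt
        interval_cases n <;> simp at hn <;> omega
      exact Or.inr (Or.inl (sym_kind hG T hE rs hbot hTE hn2 (by omega)))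

end Cfsg.Agent.QtkePush
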