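import Cfsg.Agent.PushOdd.Core

/-!
# The hypotheses of the twin argument are preserved by isomorphisms
-/

set_option autoImplicit false
set_option linter.unusedSectionVars false
set_option linter.style.haveILetI false

namespace Cfsg.Agent.PushOdd

open Subgroup
open scoped commutatorElement

variable {S S' : Type*} [Group S] [Group S'] [Finite S] [Finite S'] (e : S ≃* S') {V C₀ : Subgroup S}
  [C₀.Normal]

local notation "f[" H "]" => Subgroup.map (MulEquiv.toMonoidHom e) H

instance map_equiv_normal : (f[C₀]).Normal := Subgroup.Normal.map ‹_› _ e.surjective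

theorem mem_map_apply {H : Subgroup S} {x : S} : e x ∈ f[H] ↔ x ∈ H :=
  Subgroup.mem_map_iff_mem e.injective

theorem map_centralizer_equiv (H : Subgroup S) :
    f[centralizer (H : Set S)] = centralizer (f[H] : Set S') := by
  ext y
  obtain ⟨x, rfl⟩ := e.surjective y
  rw [mem_map_apply, mem_centralizer_iff, mem_centralizer_iff]
  constructor
  · rintro h _ ⟨a, ha, rfl⟩
    simp only [MulEquiv.coe_toMonoidHom, ← map_mul, h a ha]
  · intro h a ha
    have := h (e a) ((mem_map_apply e).2 ha)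
    rwa [← map_mul, ← map_mul, e.injective.eq_iff] at this

theorem map_ct (Y : Subgroup S) : f[ct V C₀ Y] = ct f[V] f[C₀] f[Y] := by
  ext y
  obtain ⟨x, rfl⟩ := e.surjective y
  rw [mem_map_apply, mem_ct, mem_ct, mem_map_apply]
  refine and_congr_right fun _ => ⟨?_, fun h a ha => ?_⟩
  · rintro h _ ⟨a, ha, rfl⟩
    rw [MulEquiv.coe_toMonoidHom, ← map_commutatorElement, mem_map_apply]
    exact h a ha
  · have := h (e a) ((mem_map_apply e).2 ha)
    rwa [← map_commutatorElement, mem_map_apply] at this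

theorem card_map_equiv (H : Subgroup S) : Nat.card f[H] = Nat.card H :=
  Subgroup.card_map_of_injective e.injective

theorem map_comap_equiv (H : Subgroup S') : f[H.comap (MulEquiv.toMonoidHom e)] = H :=
  Subgroup.map_comap_eq_self_of_surjective e.surjective H

theorem exact_map_iff (Y : Subgroup S) : Exact f[V] f[C₀] f[Y] ↔ Exact V C₀ Y := by
  have hi : Function.Injective (MulEquiv.toMonoidHom e) := e.injective
  constructor
  · intro h
    refine ⟨?_, fun a ha b hb => e.injective ?_, fun hle => h.moves ?_, ?_⟩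
    · have := h.normal.comap (MulEquiv.toMonoidHom e)
      rwa [Subgroup.comap_map_eq_self_of_injective hi] at this
    · rw [map_mul, map_mul]
      exact h.comm _ ((mem_map_apply e).2 ha) _ ((mem_map_apply e).2 hb)
    · rw [← map_centralizer_equiv]
      exact Subgroup.map_mono hle
    · have := h.ge
      rwa [← map_centralizer_equiv, ← Subgroup.map_inf _ _ _ hi, ← map_ct, card_map_equiv,
        card_map_equiv, card_map_equiv, card_map_equiv] at this
  · intro h
    refine ⟨h.normal.map _ e.surjective, ?_, fun hle => h.moves ?_, ?_⟩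
    · rintro _ ⟨a, ha, rfl⟩ _ ⟨b, hb, rfl⟩
      simp only [MulEquiv.coe_toMonoidHom, ← map_mul, h.comm a ha b hb]
    · rw [← map_centralizer_equiv] at hle
      exact (Subgroup.map_le_map_iff_of_injective hi).1 hle
    · rw [← map_centralizer_equiv, ← Subgroup.map_inf _ _ _ hi, ← map_ct, card_map_equiv,
        card_map_equiv, card_map_equiv, card_map_equiv]
      exact h.ge

/-- Transport along an isomorphism. -/
theorem Pack.congr (h : Pack V C₀) : Pack f[V] f[C₀] := by
  have hi : Function.Injective (MulEquiv.toMonoidHom e) := e.injective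
  have hc := map_centralizer_equiv e V
  constructor
  · rintro _ ⟨a, ha, rfl⟩ _ ⟨b, hb, rfl⟩
    simp only [MulEquiv.coe_toMonoidHom, ← map_mul, h.vab a ha b hb]
  · rintro _ ⟨a, ha, rfl⟩
    simp only [MulEquiv.coe_toMonoidHom, ← map_mul, h.vsq a ha, map_one]
  · rw [← hc]
    rintro _ ⟨a, ha, rfl⟩ _ ⟨b, hb, rfl⟩
    rw [MulEquiv.coe_toMonoidHom, ← map_commutatorElement, mem_map_apply]
    exact h.dd a ha b hb
  · rw [← hc]
    rintro _ ⟨a, ha, rfl⟩
    rw [MulEquiv.coe_toMonoidHom, ← map_mul, mem_map_apply]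
    exact h.dsq a ha
  · intro Y hY hYc
    obtain ⟨Y, rfl⟩ : ∃ Z, f[Z] = Y := ⟨_, map_comap_equiv e Y⟩
    have hn := hY.comap (MulEquiv.toMonoidHom e)
    rw [Subgroup.comap_map_eq_self_of_injective hi] at hn
    rw [← map_ct, ← hc, ← Subgroup.map_inf _ _ _ hi, card_map_equiv, card_map_equiv,
      card_map_equiv, card_map_equiv]
    refine h.bound Y hn fun a ha b hb => e.injective ?_
    rw [map_mul, map_mul]
    exact hYc _ ((mem_map_apply e).2 ha) _ ((mem_map_apply e).2 hb)
  · intro Y hY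
    obtain ⟨Y, rfl⟩ : ∃ Z, f[Z] = Y := ⟨_, map_comap_equiv e Y⟩
    rw [← map_ct, ← Subgroup.map_inf _ _ _ hi, ← Subgroup.map_inf _ _ _ hi, ← Subgroup.map_sup]
    exact Subgroup.map_mono (h.span Y ((exact_map_iff e Y).1 hY))
  · intro Y Y' hY hY'
    obtain ⟨Y, rfl⟩ : ∃ Z, f[Z] = Y := ⟨_, map_comap_equiv e Y⟩
    obtain ⟨Y', rfl⟩ : ∃ Z, f[Z] = Y' := ⟨_, map_comap_equiv e Y'⟩
    rw [← map_ct, ← map_ct, h.unique Y Y' ((exact_map_iff e Y).1 hY) ((exact_map_iff e Y').1 hY')]
  · intro Y P hY hP h1 h2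
    obtain ⟨Y, rfl⟩ : ∃ Z, f[Z] = Y := ⟨_, map_comap_equiv e Y⟩
    obtain ⟨P, rfl⟩ : ∃ Z, f[Z] = P := ⟨_, map_comap_equiv e P⟩
    have hn := hP.comap (MulEquiv.toMonoidHom e)
    rw [Subgroup.comap_map_eq_self_of_injective hi] at hn
    rw [← map_ct, ← hc, ← Subgroup.map_inf _ _ _ hi, card_map_equiv, card_map_equiv,
      card_map_equiv, card_map_equiv]
    refine h.chainBound Y P ((exact_map_iff e Y).1 hY) hn (fun v hv s hs => ?_) fun v hv s hs => ?_
    · have := h1 (e v) ((mem_map_apply e).2 hv) (e s) ((mem_map_apply e).2 hs)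
      rwa [← map_ct, ← map_commutatorElement, mem_map_apply] at this
    · have := h2 (e v) (by rw [← map_ct, mem_map_apply]; exact hv) (e s) ((mem_map_apply e).2 hs)
      rwa [← map_commutatorElement, mem_map_apply] at this
  · intro Y hY
    obtain ⟨Y, rfl⟩ : ∃ Z, f[Z] = Y := ⟨_, map_comap_equiv e Y⟩
    obtain ⟨y, hy, hgood⟩ := h.good Y ((exact_map_iff e Y).1 hY)
    refine ⟨e y, (mem_map_apply e).2 hy, ?_⟩
    rintro _ ⟨v, hv, rfl⟩ hvy
    rw [MulEquiv.coe_toMonoidHom, ← map_commutatorElement, mem_map_apply] at hvy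
    rw [MulEquiv.coe_toMonoidHom, ← map_ct, mem_map_apply]
    exact hgood v hv hvy

end Cfsg.Agent.PushOdd
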