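import Mathlib.GroupTheory.PGroup
import Cfsg.Prelude.Def_Quasithin

/-!
# The facts used about one block

`R` is a Sylow 2-subgroup of a group of characteristic 2 normalising the block `E` with module `W`.
-/

set_option autoImplicit false
set_option linter.unusedSectionVars false

namespace Cfsg.Agent.QtkePush

open Subgroup
open scoped commutatorElement

universe u

variable {G : Type u} [Group G]

/-- The common facts. -/
structure Base (R E W : Subgroup G) : Prop where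
  hWR : W ≤ R
  hWE : W ≤ E
  hEW : E ≤ normalizer (W : Set G)
  hRE : R ≤ normalizer (E : Set G)
  hRW : R ≤ normalizer (W : Set G)
  comm : ∀ d ∈ R, d ∈ centralizer (W : Set G) → ∀ e ∈ E, ⁅d, e⁆ ∈ W
  ne : W ≠ ⊥

/-- An offender on a linear block covers the Sylow subgroup of the block. -/
def Covers (R E W : Subgroup G) : Prop :=
  ∀ Y : Subgroup G, Y ≤ R → R ≤ normalizer (Y : Set G) → (∀ a ∈ Y, ∀ b ∈ Y, a * b = b * a) →
    ¬ Y ≤ centralizer (W : Set G) →
    Nat.card W * Nat.card (Y ⊓ centralizer (W : Set G) : Subgroup G) ≤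
      Nat.card Y * Nat.card (W ⊓ centralizer (Y : Set G) : Subgroup G) →
    ∀ s ∈ R ⊓ E, ∃ y ∈ Y, y⁻¹ * s ∈ centralizer (W : Set G)

/-- A linear block of degree at least four. -/
def LinKind (R E W : Subgroup G) : Prop :=
  Covers R E W ∧ ∃ p : ℕ, p.Prime ∧ p ≠ 2 ∧ ∃ x ∈ E, x ^ p = 1 ∧
    x ∈ normalizer ((R ⊓ E : Subgroup G) : Set G) ∧
    ∃ w ∈ W, ∃ s ∈ R ⊓ E, x * ⁅w, s⁆ ≠ ⁅w, s⁆ * x

/-- A Sylow subgroup fixes exactly one involution of the module, the block none. -/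
structure FixOne (R E W : Subgroup G) : Prop where
  bot : W ⊓ centralizer (E : Set G) = ⊥
  uniq : ∀ a ∈ W, ∀ b ∈ W, a ≠ 1 → b ≠ 1 → a ∈ centralizer (R : Set G) →
    b ∈ centralizer (R : Set G) → a = b

/-- An alternating block of degree at least five. -/
def SymKind (R E W : Subgroup G) : Prop :=
  FixOne R E W ∧ ∃ (x : G) (P : Subgroup G), x ∈ E ∧ x ^ 3 = 1 ∧
    x ∉ centralizer (W : Set G) ∧ P ≤ R ⊓ E ∧ x ∈ normalizer (P : Set G) ∧
    W ⊓ centralizer (P : Set G) ≤ centralizer ({x} : Set G)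

/-- A block isomorphic to `A₄`. -/
structure A4 (R E W : Subgroup G) (x l m : G) : Prop where
  xE : x ∈ E
  x3 : x ^ 3 = 1
  lW : l ∈ W
  mW : m ∈ W
  l1 : l ≠ 1
  m1 : m ≠ 1
  lm : l ≠ m
  mem : ∀ w ∈ W, w = 1 ∨ w = l ∨ w = m ∨ w = l * m
  xl : x * l * x⁻¹ = m
  xm : x * m * x⁻¹ = l * m
  lR : l ∈ centralizer (R : Set G)
  gen : ∀ e ∈ E, ∃ w ∈ W, ∃ k : ℕ, e = w * x ^ k

/-- A block of degree three. -/
def ThreeKind (R E W : Subgroup G) : Prop :=
  FixOne R E W ∧ ∃ x l m : G, A4 R E W x l m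

/-- One of the three kinds. -/
def Kind (R E W : Subgroup G) : Prop :=
  LinKind R E W ∨ SymKind R E W ∨ ThreeKind R E W

end Cfsg.Agent.QtkePush
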