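import Cfsg.Agent.QtkePush.Twin
import Cfsg.Agent.QtkePush.Rank
import Cfsg.Agent.QtkePush.Kinds

/-!
# The normal subgroup generated by the images
-/

set_option autoImplicit false
set_option linter.unusedSectionVars false
set_option linter.style.haveILetI false

namespace Cfsg.Agent.QtkePush

open Subgroup
open scoped commutatorElement

universe u

variable {G : Type u} [Group G] [Finite G]

local notation "cj[" g "]" => MulEquiv.toMonoidHom (MulAut.conj g)

/-- If all images of the join of the modules centralise it, their join is the subgroup wanted. -/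
theorem exists_invariant_of_central {T M R X H : Subgroup G} {ι : Type*} [Nonempty ι]
    (E W : ι → Subgroup G) (hWR : ∀ i, W i ≤ R) (hne : ∀ i, W i ≠ ⊥)
    (hRn : R ≤ normalizer ((⨆ i, W i : Subgroup G) : Set G))
    (hcomm : ∀ i, ∀ d ∈ R, d ∈ centralizer ((⨆ i, W i : Subgroup G) : Set G) → ∀ e ∈ E i,
      ⁅d, e⁆ ∈ W i)
    (hTM : T ≤ M) (hMR : M ≤ normalizer (R : Set G)) (hX : X ≤ R ⊔ ⨆ i, E i) (hH : H ≤ X ⊔ T)
    (hcen : ∀ g ∈ M, img (⨆ i, W i) g ≤ centralizer ((⨆ i, W i : Subgroup G) : Set G)) :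
    ∃ U : Subgroup G, U ≠ ⊥ ∧ U ≤ R ∧ M ⊔ H ≤ normalizer (U : Set G) := by
  classical
  set V : Subgroup G := ⨆ i, W i with hV
  have hVR : V ≤ R := iSup_le hWR
  set U : Subgroup G := ⨆ g : M, img V (g : G) with hU
  have hUR : U ≤ R := iSup_le fun g => by
    rintro _ ⟨v, hv, rfl⟩
    exact (mem_normalizer_iff.1 (hMR g.2) _).1 (hVR hv)
  have hVU : V ≤ U := le_trans (img_one V).ge
    (le_iSup (fun g : M => img V (g : G)) ⟨1, one_mem _⟩)
  have hUC : U ≤ centralizer (V : Set G) := iSup_le fun g => hcen g g.2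
  have hMU : M ≤ normalizer (U : Set G) := by
    refine fun a ha => mem_normalizer_iff_map_conj_eq.2
      (eq_of_le_of_card_ge ?_ (Subgroup.card_map_of_injective (MulAut.conj a).injective).ge)
    refine Subgroup.map_le_iff_le_comap.2 (iSup_le fun g => Subgroup.map_le_iff_le_comap.1 ?_)
    show (img V (g : G)).map cj[a] ≤ U
    rw [img_img]
    exact le_iSup (fun g : M => img V (g : G)) ⟨a * g, mul_mem ha g.2⟩
  have hEU : ∀ i, E i ≤ normalizer (U : Set G) := fun i f hf => by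
    have key : ∀ y ∈ U, f * y * f⁻¹ ∈ U := by
      intro y hy
      have h1 := hVU ((le_iSup W i) (hcomm i y⁻¹ (inv_mem (hUR hy)) (inv_mem (hUC hy)) f hf))
      have h2 := mul_mem hy h1
      rwa [commutatorElement_def, inv_inv, show y * (y⁻¹ * f * y * f⁻¹) = f * y * f⁻¹ by group] at h2
    exact Subgroup.mem_normalizer_fintype (S := (U : Set G)) key
  obtain ⟨i⟩ := ‹Nonempty ι›
  refine ⟨U, fun e => hne i (le_bot_iff.1 ((le_iSup W i).trans (hVU.trans e.le))), hUR,
    sup_le hMU (hH.trans (sup_le (hX.trans (sup_le ?_ (iSup_le hEU))) (hTM.trans hMU)))⟩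
  refine le_trans ?_ (Subgroup.iInf_normalizer_le_normalizer_iSup _)
  refine le_iInf fun g r hr => Subgroup.mem_normalizer_fintype (S := (img V (g : G) : Set G)) ?_
  intro x hx
  rw [SetLike.mem_coe, mem_img] at hx ⊢
  have hr' : (g : G)⁻¹ * r * g ∈ R := by
    have := (mem_normalizer_iff.1 (hMR (inv_mem g.2)) r).1 hr
    rwa [inv_inv] at this
  have hn : R ≤ normalizer (V : Set G) := hRn
  have := (mem_normalizer_iff.1 (hn hr') _).1 hx
  convert this using 1
  group

/-- Some element of odd prime order of a block moves its module. -/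
theorem exists_moving_element {R E W : Subgroup G} (hb : Base R E W) (hk : Kind R E W) :
    ∃ p : ℕ, p.Prime ∧ p ≠ 2 ∧ ∃ x ∈ E, x ^ p = 1 ∧ x ∉ centralizer (W : Set G) := by
  rcases hk with ⟨-, p, hp, hp2, x, hx, hxp, -, w, hw, s, hs, hne⟩ | ⟨-, x, P, hx, h3, hxW, -⟩ |
    ⟨-, x, l, m, ha⟩
  · refine ⟨p, hp, hp2, x, hx, hxp, fun hc => hne ?_⟩
    have hws : ⁅w, s⁆ ∈ W := by
      rw [commutatorElement_def, mul_assoc, mul_assoc, ← mul_assoc s]
      exact mul_mem hw ((mem_normalizer_iff.1 (hb.hRW hs.1) _).1 (inv_mem hw))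
    exact (mem_centralizer_iff.1 hc _ hws).symm
  · exact ⟨3, Nat.prime_three, by decide, x, hx, h3, hxW⟩
  · refine ⟨3, Nat.prime_three, by decide, x, ha.xE, ha.x3, fun hc => ha.lm ?_⟩
    rw [← ha.xl, ← mem_centralizer_iff.1 hc _ ha.lW, mul_inv_cancel_right]

/-- Two blocks, exchanged by an element of `T`, with moving images. -/
structure PairSys (T : Sylow 2 G) (M R E W : Subgroup G) (t : G) : Prop where
  hTM : (T : Subgroup G) ≤ M
  hRT : R ≤ (T : Subgroup G)
  hR : R ≠ ⊥
  tw : Nonempty (Tw M R W)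
  base : Base R E W
  kind : Kind R E W
  ht : t ∈ (T : Subgroup G)
  htE : t ∉ normalizer (E : Set G)
  comm : ∀ e ∈ E, ∀ f ∈ E, e * (t * f * t⁻¹) = t * f * t⁻¹ * e
  split : ∀ s ∈ (T : Subgroup G), s ∈ normalizer (E : Set G) ∨ t⁻¹ * s ∈ normalizer (E : Set G)
  normE : ∀ s ∈ (T : Subgroup G), s ∈ normalizer (E : Set G) → s ∈ normalizer (W : Set G)
  mov : ∃ g ∈ M, ¬ Apart W g 1

end Cfsg.Agent.QtkePush
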