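import Cfsg.Agent.QtkePush.Kinds
import Cfsg.Agent.PushOdd.BlockLin
import Cfsg.Agent.LocalCGT.DegreeBase
import Cfsg.Agent.Classical.LinearBasic

/-!
# A linear block over at least four elements

The Sylow subgroup of the block is the preimage of the stabilizer of a vector, so a torus element
of odd prime order normalises it; an offender normalised by the Sylow subgroup induces that
stabilizer.
-/

set_option autoImplicit false
set_option linter.unusedSectionVars false
set_option linter.style.haveILetI false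

namespace Cfsg.Agent.QtkePush

open Subgroup LocalCGT
open Baumann.Sub (SBlock bW bWE bZ bQ SLTwo slPerm)
open scoped commutatorElement

universe u

variable {G : Type u} [Group G] [Finite G] (hG : centralizer (Cfsg.pCore 2 G : Set G) ≤ Cfsg.pCore 2 G)
  (T : Sylow 2 G) {E : Subgroup G}

include hG

/-- A linear block has the linear kind. -/
theorem lin_kind (hE : SBlock 2 E) (hTE : (T : Subgroup G) ≤ normalizer (E : Set G)) {K : Type}
    [Field K] [Fintype K] {n : ℕ} (hK : Fintype.card K = 2 ^ n) (h3 : 3 ≤ Fintype.card K)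
    (r : LinMod 2 E K) : LinKind (T : Subgroup G) E (bWE 2 E) := by
  classical
  haveI : Fact (Nat.Prime 2) := ⟨Nat.prime_two⟩
  haveI : CharP K 2 := charP_of_card_eq_prime_pow hK
  obtain ⟨t, ht0, ht1⟩ : ∃ t : K, t ≠ 0 ∧ t ≠ 1 := by
    by_contra hcon
    push Not at hcon
    have : Fintype.card K ≤ 2 := by
      rw [← Finset.card_univ]
      refine (Finset.card_le_card (t := ({0, 1} : Finset K)) fun x _ => ?_).trans Finset.card_le_two
      by_cases hx : x = 0 <;> simp [hx, hcon]
    omega
  have ht2 : t ^ 2 ≠ 1 := fun e => ht1 (PushOdd.eq_one_of_pow_two_pow (k := 1) (by rwa [pow_one]))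
  have htop : _root_.commutator (SLTwo K) = ⊤ :=
    Classical.commutator_sl_eq_top (Or.inr ⟨t, ht0, ht2⟩)
  set W := bWE 2 E with hW
  set N := normalizer (E : Set G) with hN
  have hWE : W ≤ E := Degree.WE_le_E hE
  have hWT : W ≤ (T : Subgroup G) :=
    ((Baumann.Sub.WE_le_gV hG hE).trans Baumann.Sub.gV_le).trans (Core.pCore_le_sylow T)
  have hTW : (T : Subgroup G) ≤ normalizer (W : Set G) := hTE.trans (normalizer_le_normalizer_WE E)
  -- the action of `E` and of `T`
  let f : ↥E →* Equiv.Perm (Fin 2 → K) := r.π.comp (inclusion Subgroup.le_normalizer)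
  have hf : ∀ M : SLTwo K, ∃ e : ↥E, f e = slPerm M := by
    intro M
    have : slPerm M ∈ (E.subgroupOf N).map r.π := by
      rw [r.image, htop]
      exact ⟨M, mem_top _, rfl⟩
    obtain ⟨e, he, hee⟩ := this
    exact ⟨⟨e, he⟩, hee⟩
  have hfM : ∀ e : ↥E, ∃ M : SLTwo K, slPerm M = f e := by
    intro e
    obtain ⟨M, -, hM⟩ := r.image.le
      (⟨inclusion Subgroup.le_normalizer e, e.2, rfl⟩ : f e ∈ (E.subgroupOf N).map r.π)
    exact ⟨M, hM⟩
  have hker : ∀ e : ↥E, f e = 1 ↔ (e : G) ∈ bQ 2 E := fun e =>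
    ⟨fun h => Baumann.Sub.mem_bQ_of_centralizes hG hE e.2 ((r.triv _).1 h), fun h => (r.triv _).2
      (centralizer_le (Baumann.Sub.WE_le_bW hE) (Baumann.Sub.bQ_le_centralizer_bW hE h))⟩
  -- a vector fixed by the Sylow subgroup of `E`
  set S₀ : Subgroup ↥E := (T : Subgroup G).subgroupOf E with hS₀
  have hS₀p : IsPGroup 2 S₀ := T.isPGroup'.comap_of_injective E.subtype E.subtype_injective
  set P : Subgroup (SLTwo K) := (S₀.map f).comap slPerm
  have hPp : IsPGroup 2 P := (hS₀p.map f).comap_of_injective slPerm Baumann.Sub.slPerm_injective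
  obtain ⟨v, hv, hvP⟩ := exists_fixed_vector hK P hPp
  have hvS : ∀ e ∈ S₀, f e v = v := by
    intro e he
    obtain ⟨M, hM⟩ := hfM e
    rw [← hM]
    exact hvP M (Subgroup.mem_comap.2 (hM ▸ ⟨e, he, rfl⟩))
  have hinv : ∀ M : SLTwo K, slPerm M v = v → slPerm (M * M) = 1 := by
    intro M hM
    obtain ⟨z, hz⟩ := exists_second hv
    obtain ⟨c, hc⟩ : ∃ c : K, slPerm M z - z = c • v := by
      refine line_of_det hv ?_
      have := det_mulVec M v z
      rw [← Baumann.Sub.slPerm_apply, ← Baumann.Sub.slPerm_apply, hM] at this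
      simp only [Pi.sub_apply]
      linear_combination this
    have hlin := Baumann.Sub.isSemi_slPerm M
    have e2 : slPerm (M * M) z = z := by
      rw [map_mul, Equiv.Perm.mul_apply, sub_eq_iff_eq_add.1 hc, hlin.1, hlin.2,
        show ((1 : K ≃+* K) c) = c from rfl, hM, sub_eq_iff_eq_add.1 hc, ← add_assoc]
      rw [show c • v + c • v = (0 : Fin 2 → K) by
        rw [← add_smul, CharTwo.add_self_eq_zero, zero_smul], zero_add]
    rw [eq_one_of_fix_two (M := M * M) (v := v) (w := z) (by rw [hz]; exact one_ne_zero)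
      (by rw [map_mul, Equiv.Perm.mul_apply, hM, hM]) e2, map_one]
  -- the Sylow subgroup is the preimage of the stabilizer
  let U : Subgroup ↥E :=
    { carrier := {e | f e v = v}
      one_mem' := by simp
      mul_mem' := fun {a b} ha hb => by
        simp only [Set.mem_ofPred_eq, map_mul, Equiv.Perm.mul_apply] at ha hb ⊢
        rw [hb, ha]
      inv_mem' := fun {a} ha => by
        simp only [Set.mem_ofPred_eq, map_inv, Equiv.Perm.inv_eq_iff_eq] at ha ⊢
        exact ha.symm }
  have hUp : IsPGroup 2 U := by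
    rintro ⟨e, he⟩
    obtain ⟨M, hM⟩ := hfM e
    have h1 : f (e * e) = 1 := by
      rw [map_mul, ← hM, ← map_mul]
      exact hinv M (by rw [hM]; exact he)
    obtain ⟨k, hk⟩ := Core.pCore_isPGroup (p := 2) (G := ↥E)
      ⟨e * e, (by
        obtain ⟨q, hq, hqe⟩ := (hker _).1 h1
        exact (Subtype.ext hqe : q = e * e) ▸ hq)⟩
    refine ⟨k + 1, Subtype.ext ?_⟩
    show e ^ 2 ^ (k + 1) = 1
    rw [pow_succ', pow_mul, pow_two]
    exact congrArg Subtype.val hk
  have hU : ∀ e : ↥E, (e : G) ∈ (T : Subgroup G) ↔ f e v = v := by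
    refine fun e => ⟨fun he => hvS e he, fun he => ?_⟩
    have hle : S₀ ≤ U := fun e he => hvS e he
    have hidx : ¬ 2 ∣ S₀.index := LocalStructure.not_dvd_relIndex_subnormal T hE.2
    have heq : S₀ = U := by
      refine le_antisymm hle (Subgroup.relIndex_eq_one.1 ?_)
      obtain ⟨j, hj⟩ := (IsPGroup.iff_card.1 hUp)
      have hd : S₀.relIndex U ∣ 2 ^ j := hj ▸ (S₀.subgroupOf U).index_dvd_card
      obtain ⟨i, -, hi⟩ := (Nat.dvd_prime_pow Nat.prime_two).1 hd
      rcases i with _ | i
      · simpa using hi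
      · exact absurd ((hi ▸ dvd_pow_self 2 (Nat.succ_ne_zero i) : 2 ∣ S₀.relIndex U).trans
          (Subgroup.relIndex_dvd_index_of_le hle)) hidx
    exact (heq.ge he : e ∈ S₀)
  have hlin : ∀ (e : ↥E) (a : K) (w : Fin 2 → K), f e (a • w) = a • f e w := fun e a w => by
    obtain ⟨M, hM⟩ := hfM e
    rw [← hM]
    exact (Baumann.Sub.isSemi_slPerm M).2 a w
  refine ⟨fun Y hYT hTY hYc hYne hge s hs => ?_, ?_⟩
  · -- covering
    have hYN : Y ≤ N := hYT.trans hTE
    set Y' : Subgroup ↥N := Y.subgroupOf N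
    set A := Y'.map r.π with hA
    have hY'p : IsPGroup 2 Y' :=
      (T.isPGroup'.to_le hYT).comap_of_injective N.subtype N.subtype_injective
    set Fx : Set (Fin 2 → K) := {w | ∀ σ ∈ A, σ w = w} with hFx
    -- counts
    have hc1 : Nat.card Y ≤ Nat.card A * Nat.card (Y ⊓ centralizer (W : Set G) : Subgroup G) := by
      let g : ↥Y' →* Equiv.Perm (Fin 2 → K) := r.π.comp Y'.subtype
      rw [← Nat.card_congr (Subgroup.subgroupOfEquivOfLe hYN).toEquiv, FFStruct.card_range_ker g,
        MonoidHom.range_comp, range_subtype]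
      refine Nat.mul_le_mul_left _ (Nat.card_le_card_of_injective
        (fun k => ⟨((k : ↥Y') : ↥N), mem_subgroupOf.1 (k : ↥Y').2, (r.triv _).1 k.2⟩) ?_)
      intro a b h
      exact Subtype.ext (Subtype.ext (Subtype.ext (congrArg Subtype.val h :)))
    have hc2 : Nat.card (W ⊓ centralizer (Y : Set G) : Subgroup G) ≤
        Nat.card Fx * Nat.card r.ψ.ker := by
      set J : Subgroup ↥W := (centralizer (Y : Set G)).subgroupOf W
      have e1 : Nat.card (W ⊓ centralizer (Y : Set G) : Subgroup G) = Nat.card J := by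
        rw [inf_comm, ← Subgroup.subgroupOf_map_subtype]
        exact Subgroup.card_map_of_injective W.subtype_injective
      rw [e1, FFStruct.card_range_ker (r.ψ.comp J.subtype)]
      refine Nat.mul_le_mul ?_ (Nat.card_le_card_of_injective
        (fun k => ⟨((k : ↥J) : ↥W), k.2⟩)
        fun a b h => Subtype.ext (Subtype.ext (congrArg Subtype.val h :)))
      refine Nat.card_le_card_of_injective (fun w => ⟨Multiplicative.toAdd (w : Multiplicative _), ?_⟩)
        fun a b h => Subtype.ext (Multiplicative.toAdd.injective (congrArg Subtype.val h :))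
      obtain ⟨⟨⟨u, hu⟩, huJ⟩, huw⟩ := w.2
      rintro _ ⟨y, hy, rfl⟩
      have h := r.spec y ⟨u, hu⟩ ⟨u, hu⟩ (by
        show u = (y : G) * u * (y : G)⁻¹
        rw [mem_centralizer_iff.1 (mem_subgroupOf.1 huJ) _ (mem_subgroupOf.1 hy),
          mul_inv_cancel_right])
      rw [← huw]
      exact h
    have hW2 : Nat.card W = Fintype.card K * Fintype.card K * Nat.card r.ψ.ker := by
      rw [FFStruct.card_range_ker r.ψ, MonoidHom.range_eq_top.2 r.surj, Subgroup.card_top,
        Nat.card_eq_fintype_card, Fintype.card_multiplicative, Fintype.card_fun, Fintype.card_fin,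
        pow_two]
    have hbig : Fintype.card K * Fintype.card K ≤ Nat.card A * Nat.card Fx := by
      have h := hge.trans (Nat.mul_le_mul hc1 hc2)
      rw [hW2] at h
      refine Nat.le_of_mul_le_mul_right ?_ (Nat.mul_pos (Nat.card_pos (α := r.ψ.ker))
        (Nat.card_pos (α := (Y ⊓ centralizer (W : Set G) : Subgroup G))))
      calc _ = _ := by ring
        _ ≤ _ := h
        _ = _ := by ring
    have hsl : ∀ y ∈ Y', r.σ y = 1 → ∃ M : SLTwo K, slPerm M = r.π y := by
      intro y hy hσ
      obtain ⟨k, hk⟩ := hY'p ⟨y, hy⟩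
      refine r.sl y k hσ ?_
      rw [← Subgroup.coe_pow, show y ^ 2 ^ k = 1 from congrArg Subtype.val hk]
      rfl
    obtain ⟨-, heq⟩ := semi_offender hK A (hY'p.map _)
      (by
        rintro _ ⟨a, ha, rfl⟩ _ ⟨b, hb, rfl⟩
        rw [← map_mul, ← map_mul]
        exact congrArg r.π (Subtype.ext (hYc _ (mem_subgroupOf.1 ha) _ (mem_subgroupOf.1 hb))))
      (by rintro _ ⟨a, -, rfl⟩; exact ⟨_, r.semi a⟩)
      (by rintro _ ⟨a, ha, rfl⟩ h1; exact hsl a ha ((r.semi a).eq h1))
      Fx fun w hw g hg => hw g hg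
    have hA1 : A ≠ ⊥ := fun e => hYne fun y hy => (r.triv ⟨y, hYN hy⟩).1
      (mem_bot.1 (e.le ⟨_, mem_subgroupOf.2 hy, rfl⟩))
    obtain ⟨hcardA, hsemi1, v₀, hv₀, hv₀fix, hline⟩ := heq hA1 hbig
    -- the Sylow element fixes the line
    obtain ⟨hsT, hsE⟩ := mem_inf.1 hs
    set s' : ↥N := inclusion Subgroup.le_normalizer ⟨s, hsE⟩ with hs'
    obtain ⟨Ms, hMs⟩ := hfM ⟨s, hsE⟩
    have hMs' : slPerm Ms = r.π s' := hMs
    have hsv : r.π s' v₀ ∈ Fx := by
      rintro _ ⟨y, hy, rfl⟩
      have hy' : s'⁻¹ * y * s' ∈ Y' := mem_subgroupOf.2 (by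
        have := (mem_normalizer_iff.1 (inv_mem (hTY hsT)) _).1 (mem_subgroupOf.1 hy)
        rw [inv_inv] at this
        exact this)
      have e := hv₀fix _ ⟨_, hy', rfl⟩
      rw [map_mul, map_mul, map_inv, Equiv.Perm.mul_apply, Equiv.Perm.mul_apply,
        Equiv.Perm.inv_eq_iff_eq] at e
      exact e
    obtain ⟨c, hc⟩ := (hline _).1 hsv
    have hiter : ∀ j : ℕ, r.π (s' ^ j) v₀ = c ^ j • v₀ := by
      intro j
      induction j with
      | zero => rw [pow_zero, map_one, pow_zero, one_smul]; rfl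
      | succ j ih =>
        rw [pow_succ', map_mul, Equiv.Perm.mul_apply, ih]
        show f ⟨s, hsE⟩ _ = _
        rw [hlin]
        show c ^ j • r.π s' v₀ = _
        rw [hc, smul_smul, ← pow_succ]
    have hc1 : c = 1 := by
      obtain ⟨k, hk⟩ := T.isPGroup' ⟨s, hsT⟩
      have e := hiter (2 ^ k)
      rw [show s' ^ 2 ^ k = 1 from Subtype.ext (congrArg Subtype.val hk :), map_one,
        Equiv.Perm.one_apply] at e
      refine PushOdd.eq_one_of_pow_two_pow (k := k) (smul_left_injective K hv₀ ?_)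
      simp only [← e, one_smul]
    rw [hc1, one_smul] at hc
    -- `A` is the whole stabilizer
    let St : Subgroup (SLTwo K) :=
      { carrier := {M | slPerm M v₀ = v₀}
        one_mem' := by simp
        mul_mem' := fun {a b} ha hb => by
          simp only [Set.mem_ofPred_eq, map_mul, Equiv.Perm.mul_apply] at ha hb ⊢
          rw [hb, ha]
        inv_mem' := fun {a} ha => by
          simp only [Set.mem_ofPred_eq, map_inv, Equiv.Perm.inv_eq_iff_eq] at ha ⊢
          exact ha.symm }
    have hASt : A ≤ St.map slPerm := by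
      rintro _ ⟨y, hy, rfl⟩
      obtain ⟨M, hM⟩ := hsl y hy ((r.semi y).eq (hsemi1 _ ⟨y, hy, rfl⟩))
      exact ⟨M, by show slPerm M v₀ = v₀; rw [hM]; exact hv₀fix _ ⟨y, hy, rfl⟩, hM⟩
    have heqA : A = St.map slPerm := eq_of_le_of_card_ge hASt (by
      rw [Subgroup.card_map_of_injective Baumann.Sub.slPerm_injective, hcardA]
      exact card_stab_le St hv₀ fun M hM => hM)
    obtain ⟨y, hy, hys⟩ : r.π s' ∈ A := by
      rw [heqA]
      exact ⟨Ms, by show slPerm Ms v₀ = v₀; rw [hMs', hc], hMs'⟩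
    refine ⟨y, mem_subgroupOf.1 hy, ?_⟩
    have h1 : r.π (y⁻¹ * s') = 1 := by rw [map_mul, map_inv, hys, inv_mul_cancel]
    exact (r.triv _).1 h1
  · -- the torus element
    obtain ⟨z, hz⟩ := exists_second hv
    -- coordinates
    have hdet : ∀ a b c d : K, Matrix.det !![a, b; c, d] = a * d - b * c := fun a b c d =>
      Matrix.det_fin_two_of a b c d
    let B : SLTwo K := ⟨!![v 0, z 0; v 1, z 1], by rw [hdet]; exact hz⟩
    let Dg : SLTwo K := ⟨!![t, 0; 0, t⁻¹], by rw [hdet]; field_simp; ring⟩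
    have hBv : slPerm B ![1, 0] = v := by
      rw [Baumann.Sub.slPerm_apply]
      funext i; fin_cases i <;> simp [B, Matrix.mulVec, dotProduct, Fin.sum_univ_two]
    have hBz : slPerm B ![0, 1] = z := by
      rw [Baumann.Sub.slPerm_apply]
      funext i; fin_cases i <;> simp [B, Matrix.mulVec, dotProduct, Fin.sum_univ_two]
    have hBiv : slPerm B⁻¹ v = ![1, 0] := by
      rw [map_inv, Equiv.Perm.inv_eq_iff_eq]
      exact hBv.symm
    set M : SLTwo K := B * Dg * B⁻¹ with hM
    have hMv : slPerm M v = t • v := by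
      rw [hM, map_mul, map_mul, Equiv.Perm.mul_apply, Equiv.Perm.mul_apply, hBiv,
        show slPerm Dg ![1, 0] = t • ![1, 0] by
          rw [Baumann.Sub.slPerm_apply]
          funext i; fin_cases i <;> simp [Dg, Matrix.mulVec, dotProduct, Fin.sum_univ_two],
        (Baumann.Sub.isSemi_slPerm B).2, show ((1 : K ≃+* K) t) = t from rfl, hBv]
    obtain ⟨x₀, hx₀⟩ := hf M
    have hiter : ∀ j : ℕ, f (x₀ ^ j) v = t ^ j • v := by
      intro j
      induction j with
      | zero => rw [pow_zero, map_one, pow_zero, one_smul]; rfl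
      | succ j ih =>
        rw [pow_succ', map_mul, Equiv.Perm.mul_apply, ih, hlin, hx₀, hMv, smul_smul, ← pow_succ]
    -- the odd part
    obtain ⟨k, o, hodd, hxo⟩ := Nat.exists_eq_two_pow_mul_odd (orderOf_pos x₀).ne'
    set y := x₀ ^ 2 ^ k with hy
    have hyo : orderOf y = o := by
      rw [hy, orderOf_pow' _ (pow_ne_zero k two_ne_zero), hxo, Nat.gcd_mul_right_left,
        Nat.mul_div_cancel_left _ (pow_pos two_pos k)]
    have hy1 : y ≠ 1 := by
      intro e
      have := hiter (2 ^ k)
      rw [← hy, e, map_one, Equiv.Perm.one_apply] at this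
      exact ht1 (PushOdd.eq_one_of_pow_two_pow (k := k) (smul_left_injective K hv
        (by simp only [← this, one_smul])))
    set p := o.minFac with hp
    have ho1 : o ≠ 1 := fun e => hy1 (orderOf_eq_one_iff.1 (hyo.trans e))
    have hpp : p.Prime := Nat.minFac_prime ho1
    have hp2 : p ≠ 2 := fun e => by
      have h2 : 2 ∣ o := e ▸ Nat.minFac_dvd o
      exact Nat.not_even_iff_odd.2 hodd (even_iff_two_dvd.2 h2)
    set x := x₀ ^ (2 ^ k * (o / p)) with hx
    have hxp : x ^ p = 1 := by
      rw [hx, ← pow_mul, mul_assoc, Nat.div_mul_cancel (Nat.minFac_dvd o), ← hxo, pow_orderOf_eq_one]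
    have hx1 : x ≠ 1 := by
      intro e
      have h1 : orderOf x₀ ∣ 2 ^ k * (o / p) := orderOf_dvd_of_pow_eq_one e
      rw [hxo] at h1
      have h2 := Nat.dvd_of_mul_dvd_mul_left (pow_pos two_pos k) h1
      have h3 := Nat.le_of_dvd (Nat.div_pos (Nat.le_of_dvd (Nat.pos_of_ne_zero fun e => by
        rw [e] at hodd; exact Nat.not_odd_iff_even.2 Even.zero hodd) (Nat.minFac_dvd o))
        hpp.pos) h2
      exact absurd h3 (not_le.2 (Nat.div_lt_self (Nat.pos_of_ne_zero fun e => by
        rw [e] at hodd; exact Nat.not_odd_iff_even.2 Even.zero hodd) hpp.one_lt))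
    set c := t ^ (2 ^ k * (o / p)) with hc
    have hxv : f x v = c • v := hiter _
    have hc1 : c ≠ 1 := by
      intro e
      rw [e, one_smul] at hxv
      obtain ⟨j, hj⟩ := hUp ⟨x, hxv⟩
      have hj' : x ^ 2 ^ j = 1 := congrArg Subtype.val hj
      exact hx1 (orderOf_eq_one_iff.1 (Nat.eq_one_of_dvd_coprimes
        (Nat.Coprime.pow_right j ((Nat.coprime_primes hpp Nat.prime_two).2 hp2))
        (orderOf_dvd_of_pow_eq_one hxp) (orderOf_dvd_of_pow_eq_one hj')))
    refine ⟨p, hpp, hp2, x, x.2, congrArg Subtype.val hxp, ?_, ?_⟩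
    · -- `x` normalises the Sylow subgroup
      have hc0 : c ≠ 0 := pow_ne_zero _ ht0
      have key : ∀ e : ↥E, f e v = v ↔ f (x * e * x⁻¹) v = v := by
        intro e
        have hxi : f x⁻¹ v = c⁻¹ • v := by
          rw [map_inv, Equiv.Perm.inv_eq_iff_eq, hlin, hxv, smul_smul, inv_mul_cancel₀ hc0, one_smul]
        rw [map_mul, map_mul, Equiv.Perm.mul_apply, Equiv.Perm.mul_apply, hxi, hlin, hlin]
        constructor
        · intro h; rw [h, hxv, smul_smul, inv_mul_cancel₀ hc0, one_smul]
        · intro h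
          refine (f x).injective ?_
          rw [hxv]
          have h2 := congrArg (fun w => c • w) h
          simp only [smul_smul, mul_inv_cancel₀ hc0, one_smul] at h2
          exact h2
      refine mem_normalizer_iff.2 fun g => ?_
      constructor
      · rintro ⟨hgT, hgE⟩
        have h := (key ⟨g, hgE⟩).1 ((hU _).1 hgT)
        exact ⟨(hU (x * ⟨g, hgE⟩ * x⁻¹)).2 h, E.mul_mem (E.mul_mem x.2 hgE) (E.inv_mem x.2)⟩
      · rintro ⟨hgT, hgE⟩
        have hg : g ∈ E := by
          have := E.mul_mem (E.mul_mem (E.inv_mem x.2) hgE) x.2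
          rwa [show (x : G)⁻¹ * ((x : G) * g * (x : G)⁻¹) * (x : G) = g by group] at this
        exact ⟨(hU ⟨g, hg⟩).2 ((key ⟨g, hg⟩).2 ((hU _).1 hgT)), hg⟩
    · -- a commutator moved by `x`
      let Up : SLTwo K := ⟨!![1, 1; 0, 1], by rw [hdet]; ring⟩
      let Tv : SLTwo K := B * Up * B⁻¹
      have hTv : slPerm Tv v = v ∧ slPerm Tv z = v + z := by
        have hBiz : slPerm B⁻¹ z = ![0, 1] := by
          rw [map_inv, Equiv.Perm.inv_eq_iff_eq]
          exact hBz.symm
        have h0 : slPerm Up (![1, 0] : Fin 2 → K) = ![1, 0] := by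
          rw [Baumann.Sub.slPerm_apply]
          funext i; fin_cases i <;> simp [Up, Matrix.mulVec, dotProduct, Fin.sum_univ_two]
        have h1 : slPerm Up (![0, 1] : Fin 2 → K) =
            ![1, 0] + ![0, 1] := by
          rw [Baumann.Sub.slPerm_apply]
          funext i; fin_cases i <;> simp [Up, Matrix.mulVec, dotProduct, Fin.sum_univ_two]
        simp only [Tv, map_mul, Equiv.Perm.mul_apply, hBiv, hBiz, h0, h1]
        exact ⟨hBv, by rw [(Baumann.Sub.isSemi_slPerm B).1, hBv, hBz]⟩
      obtain ⟨s, hs⟩ := hf Tv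
      have hsT : (s : G) ∈ (T : Subgroup G) := (hU s).2 (by rw [hs]; exact hTv.1)
      obtain ⟨w, hw⟩ := r.surj (Multiplicative.ofAdd z)
      refine ⟨w, w.2, s, ⟨hsT, s.2⟩, fun h => ?_⟩
      set s' : ↥N := inclusion Subgroup.le_normalizer s with hs'
      set x' : ↥N := inclusion Subgroup.le_normalizer x with hx'
      have hsW : (s : G) * w * (s : G)⁻¹ ∈ W :=
        (mem_normalizer_iff.1 (hTW hsT) _).1 w.2
      set u : ↥W := w * ⟨_, hsW⟩⁻¹ with hu
      have huc : (u : G) = ⁅(w : G), (s : G)⁆ := by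
        rw [hu, Subgroup.coe_mul, Subgroup.coe_inv, commutatorElement_def]
        group
      have hψu : Multiplicative.toAdd (r.ψ u) = -v := by
        rw [hu, map_mul, map_inv, toAdd_mul, toAdd_inv, ← r.spec s' w ⟨_, hsW⟩ rfl, hw, toAdd_ofAdd]
        show z + -(f s z) = -v
        rw [hs, hTv.2]
        abel
      have hfix := r.spec x' u u (by
        show (u : G) = (x : G) * u * (x : G)⁻¹
        rw [huc, h, mul_inv_cancel_right])
      rw [hψu] at hfix
      have : c • (-v) = -v := by
        refine Eq.trans ?_ hfix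
        show c • (-v) = f x (-v)
        rw [← neg_one_smul K v, hlin, hxv, smul_comm]
      refine hc1 (smul_left_injective K (neg_ne_zero.2 hv) ?_)
      simp only [this, one_smul]

end Cfsg.Agent.QtkePush
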