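import Cfsg.Agent.QtkePush.Setup
import Cfsg.Agent.QtkePush.Sections
import Cfsg.Agent.QtkePush.AThree.Final

/-!
# A common nontrivial normal 2-subgroup
-/

set_option autoImplicit false
set_option linter.unusedSectionVars false

namespace Cfsg.Agent.QtkePush

open Subgroup

universe u

variable {G : Type u} [Group G] [Finite G]

/-- Two exchanged blocks with moving images do not occur. -/
theorem false_of_pairSys (hQ : Cfsg.IsQuasithin G) (hEC : Cfsg.IsOfEvenCharacteristic G)
    {T : Sylow 2 G} {M R E W : Subgroup G} {t : G} (P : PairSys T M R E W t) : False := by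
  obtain ⟨w⟩ := P.tw
  rcases P.kind with hk | hk | hk
  · obtain ⟨N⟩ := P.exists_six w
    exact false_of_linKind hQ P w N hk
  · obtain ⟨N⟩ := P.exists_six w
    exact false_of_symKind hQ P w N hk
  · exact AThree.false_of_threeKind hQ hEC P w hk

end Cfsg.Agent.QtkePush
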