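import Cfsg.Agent.QtkePush.Join

/-!
# The six moving images

From two exchanged blocks: three pairs of images of the module, one of them fixed by the Sylow
2-subgroup, each pair non-commuting, images of different pairs commuting.
-/

set_option autoImplicit false
set_option linter.unusedSectionVars false
set_option linter.style.haveILetI false

namespace Cfsg.Agent.QtkePush

open Subgroup

universe u

variable {G : Type u} [Group G] [Finite G]

local notation "cj[" g "]" => MulEquiv.toMonoidHom (MulAut.conj g)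

namespace Tw

variable {M R V : Subgroup G} (w : Tw M R V)
include w

theorem dd_mul_congr {s g h : G} (hs : s ∈ M) (e : dd R V g = dd R V h) :
    dd R V (s * g) = dd R V (s * h) := by
  rw [← w.dd_translate hs, ← w.dd_translate hs, e]

theorem moving_translate {s g h : G} (a : ¬ Apart V g h) : ¬ Apart V (s * g) (s * h) :=
  fun h' => a ((apart_translate V s g h).1 h')

theorem dd_ne_of_moving {g h : G} (hh : h ∈ M) (a : ¬ Apart V g h) : dd R V g ≠ dd R V h :=
  fun e => a ((w.apart_congr hh e).2 (w.apart_self (g := h))).symm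

/-- Equal centralisers have equal partners. -/
theorem partner_congr {g g' h h' : G} (_hg : g ∈ M) (hg' : g' ∈ M) (hh : h ∈ M) (hh' : h' ∈ M)
    (a : ¬ Apart V g' g) (b : ¬ Apart V h' h) (e : dd R V g = dd R V h) :
    dd R V g' = dd R V h' :=
  w.dd_eq_of_twin hh hg' hh' (fun h'' => a ((w.apart_congr hg' e).2 h'')) b

end Tw

/-- The six images, indexed by the pair and the side in the pair. -/
structure Six (T : Sylow 2 G) (M R E W : Subgroup G) (t : G) where
  g : Fin 3 → Bool → G
  mem : ∀ i b, g i b ∈ M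
  own : ∀ i b, ¬ Apart W (g i b) (g i !b)
  cross : ∀ i j b c, i ≠ j → Apart W (g i b) (g j c)
  inj : ∀ i j b c, dd R W (g i b) = dd R W (g j c) → i = j ∧ b = c
  g1 : g 1 false = 1
  g2 : g 2 false = t
  inN : ∀ s ∈ (T : Subgroup G), s ∈ normalizer (E : Set G) → ∀ i b, i ≠ 0 →
    dd R W (s * g i b) = dd R W (g i b)
  notN : ∀ s ∈ (T : Subgroup G), s ∉ normalizer (E : Set G) → ∀ b,
    dd R W (s * g 1 b) = dd R W (g 2 b) ∧ dd R W (s * g 2 b) = dd R W (g 1 b)
  fix0 : ∀ s ∈ (T : Subgroup G), ∀ b, ∃ c, dd R W (s * g 0 b) = dd R W (g 0 c)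
  flip : ∃ s ∈ (T : Subgroup G), dd R W (s * g 0 false) = dd R W (g 0 true)

variable {T : Sylow 2 G} {M R E W : Subgroup G} {t : G}

namespace PairSys

variable (P : PairSys T M R E W t)
include P

theorem mul_not_mem {s : G} (hs : s ∈ (T : Subgroup G)) (h : s ∉ normalizer (E : Set G)) :
    t⁻¹ * s ∈ normalizer (E : Set G) :=
  (P.split s hs).resolve_left h

theorem conj_mem {s : G} (hs : s ∈ (T : Subgroup G)) (h : s ∈ normalizer (E : Set G)) :
    t⁻¹ * s * t ∈ normalizer (E : Set G) := by
  have hst : t⁻¹ * s * t ∈ (T : Subgroup G) := mul_mem (mul_mem (inv_mem P.ht) hs) P.ht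
  rcases P.split _ hst with h1 | h1
  · exact h1
  · exfalso
    refine P.htE ?_
    -- `t⁻² s t` and `t⁻²` normalise `E`
    have h2 : t * t ∈ normalizer (E : Set G) := by
      rcases P.split _ (mul_mem P.ht P.ht) with h2 | h2
      · exact h2
      · exact absurd (by simpa using h2) P.htE
    have := mul_mem (mul_mem (inv_mem h) h2) h1
    simpa [mul_assoc] using this

theorem sq_mem : t * t ∈ normalizer (E : Set G) := by
  rcases P.split _ (mul_mem P.ht P.ht) with h2 | h2
  · exact h2
  · exact absurd (by simpa using h2) P.htE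

theorem apart_t : Apart W t 1 := by
  intro x hx
  obtain ⟨f, hf, rfl⟩ := hx
  refine mem_centralizer_iff.2 ?_
  rintro _ ⟨e, he, rfl⟩
  simpa using P.comm e (P.base.hWE he) f (P.base.hWE hf)

theorem card_T : Nat.card (T : Subgroup G) =
    2 * Nat.card ((T : Subgroup G) ⊓ normalizer (E : Set G) : Subgroup G) := by
  set T0 := (T : Subgroup G) ⊓ normalizer (E : Set G)
  have hidx : (T0.subgroupOf (T : Subgroup G)).index = 2 := by
    rw [Subgroup.index_eq_two_iff]
    refine ⟨⟨t, P.ht⟩, fun b => ?_⟩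
    simp only [T0, mem_subgroupOf, Subgroup.coe_mul, mem_inf]
    by_cases hb : (b : G) ∈ normalizer (E : Set G)
    · refine Or.inr ⟨⟨b.2, hb⟩, fun h => P.htE ?_⟩
      simpa using mul_mem (inv_mem hb) h.2
    · refine Or.inl ⟨⟨mul_mem b.2 P.ht, ?_⟩, fun h => hb h.2⟩
      -- `b t = t (t⁻¹ b t)`
      have h1 := P.mul_not_mem b.2 hb
      have h2 : t⁻¹ * (t⁻¹ * (b : G)) * t ∈ normalizer (E : Set G) :=
        P.conj_mem (mul_mem (inv_mem P.ht) b.2) h1
      simpa [mul_assoc] using mul_mem P.sq_mem h2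
  have h := Subgroup.card_mul_index (T0.subgroupOf (T : Subgroup G))
  rw [hidx, Nat.card_congr (Subgroup.subgroupOfEquivOfLe (inf_le_left : T0 ≤ _)).toEquiv] at h
  have hT0 : Nat.card ↥((T : Subgroup G) ⊓ normalizer (E : Set G)) = Nat.card ↥T0 := rfl
  omega

/-- The stabiliser in `T` of the block fixes `C_R(W)`. -/
theorem le_stab (w : Tw M R W) :
    (T : Subgroup G) ⊓ normalizer (E : Set G) ≤ w.stab := fun s hs => w.mem_stab_iff.2 ⟨P.hTM hs.1, by
  show R ⊓ centralizer (img W s : Set G) = R ⊓ centralizer (img W 1 : Set G)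
  rw [img_one, img_eq_of_mem (P.normE s hs.1 hs.2)]⟩

set_option maxHeartbeats 1600000 in
/-- The six images. -/
theorem exists_six (w : Tw M R W) : Nonempty (Six T M R E W t) := by
  classical
  haveI : Fact (Nat.Prime 2) := ⟨Nat.prime_two⟩
  obtain ⟨a, ha, ha1⟩ := P.mov
  have htM : t ∈ M := P.hTM P.ht
  have hfix : ∀ s ∈ (T : Subgroup G), s ∈ normalizer (E : Set G) →
      dd R W s = dd R W 1 := fun s hs hsE => (w.mem_stab_iff.1 (P.le_stab w ⟨hs, hsE⟩)).2
  -- the pair of `t` differs from the pair of `1`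
  have ht1 : dd R W t ≠ dd R W 1 := by
    intro e
    refine ha1 (w.apart_of_sylow_le_stab (T := T) (fun s hs => ?_) ha)
    rcases P.split s hs with h | h
    · exact P.le_stab w ⟨hs, h⟩
    · refine w.mem_stab_iff.2 ⟨P.hTM hs, ?_⟩
      have := w.dd_mul_congr htM (hfix _ (mul_mem (inv_mem P.ht) hs) h)
      rwa [mul_inv_cancel_left, mul_one, e] at this
  -- a pair fixed by `T`
  obtain ⟨S, hSM, hS, hSc⟩ := w.exists_pairStab ha ha1
  obtain ⟨n, hn⟩ := IsPGroup.iff_card.1 T.isPGroup'
  obtain ⟨Q, hQc⟩ := Sylow.exists_subgroup_card_pow_prime (G := ↥S) 2 (n := n) (by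
    rw [← hn, hSc, P.card_T]
    exact Nat.mul_dvd_mul_left 2 (Subgroup.card_dvd_of_le (P.le_stab w)))
  set Q' := Q.map S.subtype with hQ'
  have hQc' : Nat.card Q' = Nat.card (T : Subgroup G) := by
    rw [hQ', Subgroup.card_map_of_injective S.subtype_injective, hQc, hn]
  have hQM : Q' ≤ M := (Subgroup.map_subtype_le _).trans hSM
  obtain ⟨TM, hTMe⟩ : ∃ TM : Sylow 2 ↥M, (TM : Subgroup ↥M) = (T : Subgroup G).subgroupOf M :=
    ⟨T.subtype P.hTM, rfl⟩
  obtain ⟨Q₁, hQ₁⟩ := (IsPGroup.of_card (G := ↥(Q'.subgroupOf M)) (p := 2) (n := n) (by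
    rw [Nat.card_congr (Subgroup.subgroupOfEquivOfLe hQM).toEquiv, hQc', hn])).exists_le_sylow
  obtain ⟨k, hk⟩ := MulAction.exists_smul_eq ↥M TM Q₁
  have hle : Q' ≤ (T : Subgroup G).map cj[(k : G)] := by
    intro q hq
    have h1 : (⟨q, hQM hq⟩ : ↥M) ∈ (Q₁ : Subgroup ↥M) := hQ₁ (mem_subgroupOf.2 hq)
    rw [← hk, Sylow.coe_subgroup_smul] at h1
    obtain ⟨y, hy, e⟩ := h1
    rw [SetLike.mem_coe, hTMe, mem_subgroupOf] at hy
    exact ⟨y, hy, by simpa using congrArg Subtype.val e⟩
  have hQT : Q' = (T : Subgroup G).map cj[(k : G)] := eq_of_le_of_card_ge hle (by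
    rw [Subgroup.card_map_of_injective (MulAut.conj (k : G)).injective, hQc'])
  set g0 : G := ((k : G))⁻¹ with hg0
  have hg0M : g0 ∈ M := inv_mem k.2
  have hpair : ∀ s ∈ (T : Subgroup G),
      dd R W (s * g0) = dd R W g0 ∨ dd R W (s * g0) = dd R W (g0 * a) := by
    intro s hs
    have h1 : g0⁻¹ * s * g0 ∈ S := by
      rw [hg0, inv_inv]
      exact Subgroup.map_subtype_le _ (hQT.ge ⟨s, hs, rfl⟩ : _ ∈ Q')
    obtain ⟨-, h2 | h2⟩ := (hS _).1 h1
    · left
      have := w.dd_mul_congr hg0M h2
      rwa [mul_assoc, mul_inv_cancel_left, mul_one] at this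
    · right
      have := w.dd_mul_congr hg0M h2
      rwa [mul_assoc, mul_inv_cancel_left] at this
  obtain ⟨g, hgv⟩ : ∃ g : Fin 3 → Bool → G,
      ∀ i b, g i b = (![g0, 1, t] i) * (if b then a else 1) := ⟨_, fun _ _ => rfl⟩
  have hgM : ∀ i b, g i b ∈ M := by
    intro i b
    rw [hgv]
    refine mul_mem ?_ ?_
    · fin_cases i <;> simp [hg0M, htM]
    · split_ifs
      · exact ha
      · exact one_mem _
  have hown : ∀ i b, ¬ Apart W (g i b) (g i !b) := by
    intro i b
    rw [hgv, hgv]
    refine w.moving_translate ?_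
    cases b
    · simpa using fun h : Apart W 1 a => ha1 h.symm
    · simpa using ha1
  have hflip : ∀ {i j : Fin 3} {b c : Bool}, dd R W (g i b) = dd R W (g j c) →
      dd R W (g i !b) = dd R W (g j !c) := fun {i j b c} e =>
    w.partner_congr (hgM i b) (hgM i !b) (hgM j c) (hgM j !c)
      (fun h => hown i b h.symm) (fun h => hown j c h.symm) e
  have hsame : ∀ (i : Fin 3) {b c : Bool}, dd R W (g i b) = dd R W (g i c) → b = c := by
    intro i b c e
    by_contra hne
    obtain rfl : c = !b := by cases b <;> cases c <;> simp at hne ⊢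
    exact w.dd_ne_of_moving (hgM i _) (hown i b) e
  have h12 : ∀ {b c : Bool}, dd R W (g 1 b) ≠ dd R W (g 2 c) := by
    have key : ∀ {c : Bool}, dd R W (g 1 false) ≠ dd R W (g 2 c) := by
      intro c e
      cases c
      · exact ht1 (by simpa [hgv] using e.symm)
      · refine hown 2 false ?_
        show Apart W (g 2 false) (g 2 true)
        rw [← w.apart_congr (hgM 2 false) e]
        simpa [hgv] using P.apart_t
    intro b c e
    cases b
    · exact key e
    · have e' := hflip e
      rw [Bool.not_true] at e'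
      exact key e'
  have hTN : ∀ s ∈ (T : Subgroup G), s ∈ normalizer (E : Set G) → ∀ i b, i ≠ (0 : Fin 3) →
      dd R W (s * g i b) = dd R W (g i b) := by
    intro s hs hsE i b hi
    have hfirst : dd R W (s * g i false) = dd R W (g i false) := by
      obtain rfl | rfl : i = 1 ∨ i = 2 := by omega
      · simpa [hgv] using hfix s hs hsE
      · have := w.dd_mul_congr htM (hfix _ (mul_mem (mul_mem (inv_mem P.ht) hs) P.ht)
          (P.conj_mem hs hsE))
        simpa [hgv, mul_assoc] using this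
    cases b
    · exact hfirst
    · exact w.partner_congr (mul_mem (P.hTM hs) (hgM i false)) (mul_mem (P.hTM hs) (hgM i true))
        (hgM i false) (hgM i true) (w.moving_translate fun h => hown i true h)
        (fun h => hown i true h) hfirst
  have hTn : ∀ s ∈ (T : Subgroup G), s ∉ normalizer (E : Set G) → ∀ b,
      dd R W (s * g 1 b) = dd R W (g 2 b) ∧ dd R W (s * g 2 b) = dd R W (g 1 b) := by
    intro s hs hsE b
    have hu : t⁻¹ * s ∈ normalizer (E : Set G) := P.mul_not_mem hs hsE
    have huT : t⁻¹ * s ∈ (T : Subgroup G) := mul_mem (inv_mem P.ht) hs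
    have h21 : dd R W (s * t) = dd R W 1 := by
      refine hfix _ (mul_mem hs P.ht) ?_
      have := mul_mem P.sq_mem (P.conj_mem huT hu)
      simpa [mul_assoc] using this
    have h1 : dd R W (s * g 1 false) = dd R W (g 2 false) := by
      have := w.dd_mul_congr htM (hfix _ huT hu)
      simpa [hgv] using this
    have h2 : dd R W (s * g 2 false) = dd R W (g 1 false) := by simpa [hgv] using h21
    cases b
    · exact ⟨h1, h2⟩
    · exact ⟨w.partner_congr (mul_mem (P.hTM hs) (hgM 1 false)) (mul_mem (P.hTM hs) (hgM 1 true))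
          (hgM 2 false) (hgM 2 true) (w.moving_translate fun h => hown 1 true h)
          (fun h => hown 2 true h) h1,
        w.partner_congr (mul_mem (P.hTM hs) (hgM 2 false)) (mul_mem (P.hTM hs) (hgM 2 true))
          (hgM 1 false) (hgM 1 true) (w.moving_translate fun h => hown 2 true h)
          (fun h => hown 1 true h) h2⟩
  have hT0 : ∀ s ∈ (T : Subgroup G), ∀ b, ∃ c, dd R W (s * g 0 b) = dd R W (g 0 c) := by
    intro s hs b
    have h0 : ∃ c, dd R W (s * g 0 false) = dd R W (g 0 c) := by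
      rcases hpair s hs with h | h
      · exact ⟨false, by simpa [hgv] using h⟩
      · exact ⟨true, by simpa [hgv] using h⟩
    obtain ⟨c, hc⟩ := h0
    cases b
    · exact ⟨c, hc⟩
    · exact ⟨!c, w.partner_congr (mul_mem (P.hTM hs) (hgM 0 false))
        (mul_mem (P.hTM hs) (hgM 0 true)) (hgM 0 c) (hgM 0 !c)
        (w.moving_translate fun h => hown 0 true h) (fun h => hown 0 c h.symm) hc⟩
  -- the fixed pair is neither of the other two
  have h0 : ∀ {j : Fin 3} {b c : Bool}, j ≠ 0 → dd R W (g 0 b) ≠ dd R W (g j c) := by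
    intro j b c hj e
    obtain ⟨d, hd⟩ := hT0 t P.ht b
    have e1 : dd R W (t * g j c) = dd R W (g 0 d) := (w.dd_mul_congr htM e).symm.trans hd
    obtain ⟨d', hd'⟩ : ∃ d', dd R W (g 0 d) = dd R W (g j d') := by
      by_cases hdb : d = b
      · exact ⟨c, hdb ▸ e⟩
      · obtain rfl : d = !b := by cases b <;> cases d <;> simp at hdb ⊢
        exact ⟨!c, hflip e⟩
    rw [hd'] at e1
    obtain rfl | rfl : j = 1 ∨ j = 2 := by omega
    · exact h12 (e1.symm.trans (hTn t P.ht P.htE c).1)
    · exact h12 ((hTn t P.ht P.htE c).2.symm.trans e1)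
  have hinj : ∀ i j b c, dd R W (g i b) = dd R W (g j c) → i = j ∧ b = c := by
    intro i j b c e
    by_cases hij : i = j
    · subst hij; exact ⟨rfl, hsame i e⟩
    exfalso
    by_cases hi : i = 0
    · subst hi; exact h0 (Ne.symm hij) e
    by_cases hj : j = 0
    · subst hj; exact h0 hij e.symm
    obtain rfl | rfl : i = 1 ∨ i = 2 := by omega
    · obtain rfl : j = 2 := by omega
      exact h12 e
    · obtain rfl : j = 1 := by omega
      exact h12 e.symm
  refine ⟨⟨g, hgM, hown, fun i j b c hij => ?_, hinj, by simp [hgv], by simp [hgv], hTN, hTn, hT0, ?_⟩⟩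
  · by_contra h
    have := w.dd_eq_of_twin (hgM i b) (hgM j c) (hgM i !b) (fun h' => h h'.symm)
      (fun h' => hown i b h'.symm)
    exact hij (hinj _ _ _ _ this).1.symm
  · by_contra hno
    push Not at hno
    refine ha1 (w.apart_of_sylow_le_stab (T := g0⁻¹ • T) (fun x hx => ?_) ha)
    rw [Sylow.coe_subgroup_smul] at hx
    obtain ⟨s, hs, rfl⟩ := hx
    refine w.mem_stab_iff.2 ⟨?_, ?_⟩
    · simpa using mul_mem (mul_mem (inv_mem hg0M) (P.hTM hs)) hg0M
    · have h1 : dd R W (s * g0) = dd R W g0 := by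
        rcases hpair s hs with h | h
        · exact h
        · exact absurd (by simpa [hgv] using h) (hno s hs)
      have := w.dd_mul_congr (inv_mem hg0M) h1
      simpa [mul_assoc] using this

end PairSys

end Cfsg.Agent.QtkePush
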