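import Cfsg.Agent.QtkePush.Join
import Cfsg.Agent.QtkePush.Congr
import Cfsg.Agent.QtkePush.KindMap
import Cfsg.Agent.QtkePush.Block
import Cfsg.Agent.PushOdd.Family
import Cfsg.Agent.LocalCGT.NearComp
import Cfsg.Agent.LocalCGT.GlobalMap
import Cfsg.Agent.LocalCGT.GlobalSub
import Cfsg.Agent.S2980

/-!
# The blocks of `O²(H)R`

Either a nontrivial subgroup of `R` is normalised by `M` and `H`, or two blocks exchanged by the
Sylow 2-subgroup have moving images.
-/

set_option autoImplicit false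
set_option linter.unusedSectionVars false
set_option linter.style.haveILetI false

namespace Cfsg.Agent.QtkePush

open Subgroup LocalCGT PushOdd
open Baumann.Sub (SBlock bW bWE bZ bQ)
open scoped commutatorElement

universe u

variable {G : Type u} [Group G] [Finite G]

local notation "cj[" g "]" => MulEquiv.toMonoidHom (MulAut.conj g)

/-- `H` is `O²(H)` times a Sylow subgroup. -/
theorem eq_oddGenerated_sup {H : Subgroup G} (T : Sylow 2 G) (hTH : (T : Subgroup G) ≤ H) :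
    Cfsg.oddGenerated H ≤ H ∧ H ≤ normalizer (Cfsg.oddGenerated H : Set G) ∧
      H ≤ Cfsg.oddGenerated H ⊔ (T : Subgroup G) := by
  haveI : Fact (Nat.Prime 2) := ⟨Nat.prime_two⟩
  set N := Cfsg.oddGenerated H with hN
  have hNH : N ≤ H := (closure_le _).2 fun x hx => hx.1
  have hHN : H ≤ normalizer (N : Set G) := fun h hh => by
    refine mem_normalizer_iff_map_conj_eq.2 (eq_of_le_of_card_ge ?_
      (Subgroup.card_map_of_injective (MulAut.conj h).injective).ge)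
    refine Subgroup.map_le_iff_le_comap.2 ((closure_le _).2 fun x hx => subset_closure ⟨?_, ?_⟩)
    · exact H.mul_mem (H.mul_mem hh hx.1) (H.inv_mem hh)
    · show Odd (orderOf (MulAut.conj h x))
      rw [MulEquiv.orderOf_eq]
      exact hx.2
  refine ⟨hNH, hHN, ?_⟩
  set N' := N.subgroupOf H
  haveI : N'.Normal := normal_subgroupOf_of_le_normalizer hHN
  set K := (N ⊔ (T : Subgroup G)).subgroupOf H
  have hq : IsPGroup 2 (↥H ⧸ N') := by
    intro q
    induction q using QuotientGroup.induction_on with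
    | H x =>
      obtain ⟨k, o, hodd, ho⟩ := Nat.exists_eq_two_pow_mul_odd (orderOf_pos x).ne'
      refine ⟨k, ?_⟩
      rw [← QuotientGroup.mk_pow, QuotientGroup.eq_one_iff]
      refine mem_subgroupOf.2 (subset_closure ⟨(x ^ 2 ^ k).2, ?_⟩)
      rw [Subgroup.orderOf_coe, orderOf_pow' _ (pow_ne_zero k two_ne_zero), ho,
        Nat.gcd_mul_right_left, Nat.mul_div_cancel_left _ (pow_pos two_pos k)]
      exact hodd
  have h1 : ¬ 2 ∣ K.index := fun h => by
    refine T.not_dvd_index (h.trans ?_)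
    refine (Subgroup.index_dvd_of_le (show (T : Subgroup G).subgroupOf H ≤ K from
      fun x hx => mem_subgroupOf.2 (mem_sup_right (mem_subgroupOf.1 hx)))).trans ?_
    exact Subgroup.relIndex_dvd_index_of_le hTH
  have h2 : K.index ∣ N'.index := Subgroup.index_dvd_of_le
    fun x hx => mem_subgroupOf.2 (mem_sup_left (mem_subgroupOf.1 hx))
  obtain ⟨j, hj⟩ := IsPGroup.iff_card.1 hq
  rw [← Subgroup.index_eq_card] at hj
  rw [hj] at h2
  obtain ⟨i, -, hi⟩ := (Nat.dvd_prime_pow Nat.prime_two).1 h2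
  rcases i with _ | i
  · exact subgroupOf_eq_top.1 (Subgroup.index_eq_one.1 (show K.index = 1 by simpa using hi))
  · exact absurd (hi ▸ dvd_pow_self 2 (Nat.succ_ne_zero i)) h1

/-- The pack of an orbit inside a subgroup, in the ambient group. -/
theorem exists_tw {M R X : Subgroup G} (P : Sylow 2 ↥X)
    (hP : (P : Subgroup ↥X).map X.subtype = R) {ℬ : Set (Subgroup ↥X)} (o : Orbit P ℬ)
    (hMR : M ≤ normalizer (R : Set G)) :
    Nonempty (Tw M R ((orbV ℬ).map X.subtype)) := by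
  haveI : Fact (Nat.Prime 2) := ⟨Nat.prime_two⟩
  obtain ⟨D⟩ := o.exists_odata
  haveI := o.C_normal
  haveI := o.VT_normal
  subst hP
  set e := (P : Subgroup ↥X).equivMapOfInjective X.subtype X.subtype_injective
  have hV : (orbVT P ℬ).map (MulEquiv.toMonoidHom e) =
      ((orbV ℬ).map X.subtype).subgroupOf ((P : Subgroup ↥X).map X.subtype) := by
    ext y
    obtain ⟨x, rfl⟩ := e.surjective y
    rw [PushOdd.mem_map_apply, mem_orbVT, mem_subgroupOf]
    exact (Subgroup.mem_map_iff_mem X.subtype_injective).symm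
  refine ⟨{ hMR := hMR, hVR := Subgroup.map_mono o.V_le_T, hVn := ?_
            C₀ := (orbC P ℬ).map (MulEquiv.toMonoidHom e), hC₀ := inferInstance
            pack := hV ▸ (OData.pack D).congr e }⟩
  refine (Subgroup.map_mono ?_).trans (Subgroup.le_normalizer_map _)
  intro r hr
  exact Subgroup.mem_normalizer_fintype (S := (orbV ℬ : Set ↥X)) fun v hv => o.V_conj hr hv

/-- A block has an element of odd prime order moving its module. -/
theorem exists_odd_moving (hG : centralizer (Cfsg.pCore 2 G : Set G) ≤ Cfsg.pCore 2 G)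
    {E : Subgroup G} (hE : SBlock 2 E) :
    ∃ p : ℕ, p.Prime ∧ p ≠ 2 ∧ ∃ x ∈ E, x ^ p = 1 ∧ x ∉ centralizer (bWE 2 E : Set G) := by
  haveI : Fact (Nat.Prime 2) := ⟨Nat.prime_two⟩
  rcases Nat.eq_two_pow_or_exists_odd_prime_and_dvd (Nat.card E) with ⟨k, hk⟩ | ⟨p, hp, hpd, hpo⟩
  · exfalso
    refine hE.ne_bQ (le_antisymm (Baumann.Sub.bQ_le E) fun e he => ?_)
    have hp2 : IsPGroup 2 E := IsPGroup.of_card hk
    exact ⟨⟨e, he⟩, Core.le_pCore (N := (⊤ : Subgroup ↥E)) (hp2.to_subgroup ⊤)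
      (Subgroup.mem_top _), rfl⟩
  have hp2 : p ≠ 2 := fun e => absurd (e ▸ hpo) (by decide)
  haveI : Fact p.Prime := ⟨hp⟩
  obtain ⟨x, hx⟩ := exists_prime_orderOf_dvd_card' p hpd
  refine ⟨p, hp, hp2, x, x.2, ?_, fun hc => ?_⟩
  · rw [← hx, ← Subgroup.coe_pow, pow_orderOf_eq_one, Subgroup.coe_one]
  obtain ⟨k, hk⟩ := IsPGroup.iff_orderOf.1 (Baumann.Sub.bQ_pgroup E)
    (⟨x, Baumann.Sub.mem_bQ_of_centralizes hG hE x.2 hc⟩ : ↥(bQ 2 E))
  rw [← Subgroup.orderOf_coe, Subgroup.orderOf_coe x, hx] at hk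
  rcases k with _ | k
  · exact hp.ne_one (by simpa using hk)
  · exact hp2 ((Nat.prime_dvd_prime_iff_eq Nat.prime_two hp).1 ⟨2 ^ k, by rw [hk, pow_succ']⟩).symm

/-- **The reduction.** -/
theorem reduction (hQ : Cfsg.IsQuasithin G) (hEC : Cfsg.IsOfEvenCharacteristic G)
    (T : Sylow 2 G) {M H : Subgroup G} (hTM : (T : Subgroup G) ≤ M)
    (hH : H ∈ Cfsg.calHOver (T : Subgroup G))
    (hU : ∃! K : Subgroup ↥H, IsCoatom K ∧ (T : Subgroup G).subgroupOf H ≤ K)
    {R : Subgroup G} (hR : R ≠ ⊥) (hRT : R ≤ (T : Subgroup G))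
    (hRS : ∃ P : Sylow 2 ↥(Cfsg.oddGenerated H ⊔ R),
      (P : Subgroup ↥(Cfsg.oddGenerated H ⊔ R)) = R.subgroupOf (Cfsg.oddGenerated H ⊔ R))
    (hMR : M ≤ normalizer (R : Set G)) :
    (∃ R₀ : Subgroup G, R₀ ≠ ⊥ ∧ R₀ ≤ R ∧ M ⊔ H ≤ normalizer (R₀ : Set G)) ∨
      ∃ (E W : Subgroup G) (t : G), PairSys T M R E W t := by
  classical
  haveI : Fact (Nat.Prime 2) := ⟨Nat.prime_two⟩
  obtain ⟨hHne, hTH⟩ := hH
  obtain ⟨hNH, hHN, hHNT⟩ := eq_oddGenerated_sup T hTH
  set X := Cfsg.oddGenerated H ⊔ R with hX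
  obtain ⟨P, hP⟩ := hRS
  have hRX : R ≤ X := le_sup_right
  have hXH : X ≤ H := sup_le hNH (hRT.trans hTH)
  have hPR : (P : Subgroup ↥X).map X.subtype = R := by
    rw [hP, map_subgroupOf_eq_of_le hRX]
  have hTX : (T : Subgroup G) ≤ normalizer (X : Set G) :=
    (le_inf ((hTH.trans hHN)) (hTM.trans hMR)).trans (Subgroup.normalizer_inf_normalizer_le_normalizer_sup _ _)
  have hHXT : H ≤ X ⊔ (T : Subgroup G) := hHNT.trans (sup_le_sup_right le_sup_left _)
  have hHX : H ≤ normalizer (X : Set G) := hHXT.trans (sup_le Subgroup.le_normalizer hTX)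
  -- characteristic two
  set Q := (Cfsg.pCore 2 ↥H).map H.subtype with hQd
  have hQne : Q ≠ ⊥ := fun e => hHne ((Subgroup.map_eq_bot_iff_of_injective _ H.subtype_injective).1 e)
  have hQp : IsPGroup 2 Q := Core.pCore_isPGroup.map _
  have hHQ : H ≤ normalizer (Q : Set G) := LocalStructure.le_normalizer_pCoreOf H
  have hloc : Cfsg.IsTwoLocal (normalizer (Q : Set G)) := ⟨Q, hQp, hQne, rfl⟩
  have hcharN : Cfsg.IsOfCharacteristicTwo (normalizer (Q : Set G)) :=
    hEC _ hloc ⟨T, hTH.trans hHQ⟩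
  have hGX : centralizer (Cfsg.pCore 2 ↥X : Set ↥X) ≤ Cfsg.pCore 2 ↥X := by
    set L := normalizer (Q : Set G)
    have hHL : LocalStructure.CharP 2 H := by
      rintro x ⟨hxH, hxc⟩
      have hle : Cfsg.pCoreOf 2 L ≤ Cfsg.pCoreOf 2 H := by
        have h1 : Cfsg.pCoreOf 2 L ≤ (T : Subgroup G) := by
          rintro _ ⟨y, hy, rfl⟩
          obtain ⟨T', hT'⟩ : ∃ T' : Sylow 2 ↥L, (T' : Subgroup ↥L) = (T : Subgroup G).subgroupOf L :=
            ⟨T.subtype (hTH.trans hHQ), rfl⟩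
          exact mem_subgroupOf.1 (hT'.le (Core.pCore_le_sylow T' hy))
        exact LocalStructure.le_pCoreOf_of_normal (h1.trans hTH)
          (hHQ.trans (LocalStructure.le_normalizer_pCoreOf L))
          (Core.pCore_isPGroup.map _)
      have h2 : (⟨x, hHQ hxH⟩ : ↥L) ∈ Cfsg.pCore 2 ↥L := hcharN (mem_centralizer_iff.2 fun y hy =>
        Subtype.ext (mem_centralizer_iff.1 hxc y (hle ⟨y, hy, rfl⟩)))
      exact hle ⟨_, h2, rfl⟩
    have hXc := LocalStructure.charP_of_normal hXH hHX hHL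
    intro x hx
    obtain ⟨y, hy, e⟩ := hXc (x := (x : G)) ⟨x.2, mem_centralizer_iff.2 fun y hy => by
      obtain ⟨y', hy', rfl⟩ := hy
      exact congrArg Subtype.val (mem_centralizer_iff.1 hx y' hy')⟩
    exact (Subtype.ext e : y = x) ▸ hy
  -- the maximal subgroup
  obtain ⟨K₀, ⟨hK₀, hTK₀⟩, hK₀u⟩ := hU
  set K := K₀.map H.subtype with hK
  have hmax : ∀ Y : Subgroup G, (T : Subgroup G) ≤ Y → Y ≤ H → Y = H ∨ Y ≤ K := by
    intro Y hTY hYH
    rcases eq_top_or_exists_le_coatom (Y.subgroupOf H) with h | ⟨N, hN, hYN⟩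
    · exact Or.inl (le_antisymm hYH (subgroupOf_eq_top.1 h))
    · right
      intro y hy
      rw [hK, ← hK₀u N ⟨hN, fun a ha => hYN (mem_subgroupOf.2 (hTY (mem_subgroupOf.1 ha)))⟩]
      exact ⟨⟨y, hYH hy⟩, hYN (mem_subgroupOf.2 hy), rfl⟩
  have hTK : (T : Subgroup G) ≤ K := fun a ha => ⟨⟨a, hTH ha⟩, hTK₀ (mem_subgroupOf.2 ha), rfl⟩
  have hXK : ¬ X ≤ K := fun hle => hK₀.1 (eq_top_iff.2 fun h _ => by
    obtain ⟨h', hh', e⟩ := (hHXT.trans (sup_le hle hTK)) h.2
    exact (Subtype.ext e : h' = h) ▸ hh')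
  by_cases hchar : ∃ C : Subgroup G, C ≤ R ∧ C ≠ ⊥ ∧
      normalizer (R : Set G) ≤ normalizer (C : Set G) ∧ H ≤ normalizer (C : Set G)
  · obtain ⟨C, hCR, hC, hn, hHC⟩ := hchar
    exact Or.inl ⟨C, hC, hCR, sup_le (hMR.trans hn) hHC⟩
  push Not at hchar
  have hPne : (P : Subgroup ↥X) ≠ ⊥ := fun e => hR (by rw [← hPR, e, Subgroup.map_bot])
  have hjoin : (Cfsg.charNormalizersJoin (P : Subgroup ↥X)).map X.subtype ≤ K := by
    rw [Cfsg.charNormalizersJoin, Subgroup.map_iSup]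
    refine iSup_le fun C => ?_
    obtain ⟨C, hCP, hC, hch⟩ := C
    have hch' := char_map X.subtype_injective hCP hch
    rw [hPR] at hch'
    have hn : normalizer (R : Set G) ≤ normalizer ((C.map X.subtype : Subgroup G) : Set G) := by
      have := LocalStructure.le_normalizer_map_characteristic (A := normalizer (R : Set G)) le_rfl
        ((C.map X.subtype).subgroupOf R)
      rwa [map_subgroupOf_eq_of_le (hPR ▸ Subgroup.map_mono hCP)] at this
    set C' := C.map X.subtype with hC'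
    have hTC : (T : Subgroup G) ≤ H ⊓ normalizer (C' : Set G) :=
      le_inf hTH ((hTM.trans hMR).trans hn)
    rcases hmax _ hTC inf_le_left with h | h
    · exact absurd (h.ge.trans inf_le_right) (hchar C' (hPR ▸ Subgroup.map_mono hCP)
        (fun e => hC ((Subgroup.map_eq_bot_iff_of_injective _ X.subtype_injective).1 e)) hn)
    · refine le_trans ?_ h
      exact le_inf ((Subgroup.map_subtype_le _).trans hXH) (Subgroup.le_normalizer_map _)
  have hjne : Cfsg.charNormalizersJoin (P : Subgroup ↥X) ≠ ⊤ := fun e => hXK (by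
    rw [e, ← MonoidHom.range_eq_map, Subgroup.range_subtype] at hjoin
    exact hjoin)
  obtain ⟨𝓑, h𝓑, hdeg⟩ := S2980.result hGX P hjne
  have hCsK : (Cfsg.cStarOf 2 (P : Subgroup ↥X)).map X.subtype ≤ K :=
    (Subgroup.map_mono (Degree.cStar_le_join' P hPne)).trans hjoin
  -- automorphisms induced by `T`
  let aut : ∀ a : G, a ∈ (T : Subgroup G) → MulAut ↥X := fun a ha => cjR X a (hTX ha)
  have hautP : ∀ a (ha : a ∈ (T : Subgroup G)),
      (P : Subgroup ↥X).map (MulEquiv.toMonoidHom (aut a ha)) = (P : Subgroup ↥X) := by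
    intro a ha
    refine eq_of_le_of_card_ge ?_ (Subgroup.card_map_of_injective (aut a ha).injective).ge
    rintro _ ⟨x, hx, rfl⟩
    rw [SetLike.mem_coe, hP, mem_subgroupOf] at hx
    rw [hP, mem_subgroupOf]
    exact (mem_normalizer_iff.1 (hMR (hTM ha)) _).1 hx
  have hautG : ∀ a (ha : a ∈ (T : Subgroup G)) (E : Subgroup ↥X),
      (E.map (MulEquiv.toMonoidHom (aut a ha))).map X.subtype = (E.map X.subtype).map cj[a] := by
    intro a ha E
    rw [Subgroup.map_map, Subgroup.map_map]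
    rfl
  have hsame : ∀ {A B : Subgroup ↥X}, A ∈ 𝓑 → B ∈ 𝓑 → A ≤ B → A = B := by
    intro A B hA hB hle
    by_contra hne
    have hSA : SBlock 2 A := ⟨⟨P, h𝓑.1 A hA⟩, NearComp.subnormal_of_structure h𝓑 hA⟩
    refine Baumann.Sub.WE_ne hGX hSA (le_bot_iff.1 ?_)
    calc bWE 2 A ≤ ⁅bWE 2 A, A⁆ := Baumann.Sub.WE_self hSA
      _ ≤ ⁅A, B⁆ := commutator_mono (Degree.WE_le_E hSA) hle
      _ = ⊥ := h𝓑.2.2.1 A hA B hB hne
  have hconjK : ∀ a ∈ (T : Subgroup G), ∀ E : Subgroup G, ¬ E ≤ K → ¬ E.map cj[a] ≤ K := by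
    intro a ha E hE hle
    refine hE fun e he => ?_
    have h1 : a * e * a⁻¹ ∈ K := hle ⟨e, he, rfl⟩
    have := K.mul_mem (K.mul_mem (K.inv_mem (hTK ha)) h1) (hTK ha)
    rwa [show a⁻¹ * (a * e * a⁻¹) * a = e by group] at this
  have hperm : ∀ a (ha : a ∈ (T : Subgroup G)) (A : Subgroup ↥X), A ∈ 𝓑 →
      ¬ A.map X.subtype ≤ K → A.map (MulEquiv.toMonoidHom (aut a ha)) ∈ 𝓑 := by
    have step : ∀ a (ha : a ∈ (T : Subgroup G)) (A : Subgroup ↥X), A ∈ 𝓑 →
        ¬ A.map X.subtype ≤ K → ∃ B ∈ 𝓑, A.map (MulEquiv.toMonoidHom (aut a ha)) ≤ B ∧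
          ¬ B.map X.subtype ≤ K := by
      intro a ha A hA hAK
      set φ := MulEquiv.toMonoidHom (aut a ha)
      have hinj : Function.Injective φ := (aut a ha).injective
      have hB : Cfsg.baumannSubgroupOf 2 (P : Subgroup ↥X) =
          (Cfsg.baumannSubgroupOf 2 (P : Subgroup ↥X)).map φ := by
        rw [PushRed.map_baumannOf' hinj, hautP a ha]
      have hblk : Cfsg.IsBaumannBlock 2 (P : Subgroup ↥X) (A.map φ) := by
        refine isBlock_map hinj hB (h𝓑.1 A hA) ?_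
        have e : Cfsg.omegaOneCenter 2 (P : Subgroup ↥X) =
            (Cfsg.omegaOneCenter 2 (P : Subgroup ↥X)).map φ := by
          rw [PushRed.map_omegaOneCenter' hinj, hautP a ha]
        rw [e, ← map_commutator]
        exact fun h => (h𝓑.1 A hA).2.2.2.1 ((Subgroup.map_eq_bot_iff_of_injective _ hinj).1 h)
      have hK' : ¬ (A.map φ).map X.subtype ≤ K := by
        rw [hautG a ha]
        exact hconjK a ha _ hAK
      have hout : ¬ A.map φ ≤ Cfsg.cStarOf 2 (P : Subgroup ↥X) := fun h =>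
        hK' ((Subgroup.map_mono h).trans hCsK)
      obtain ⟨B, hB, hAB⟩ := h𝓑.2.2.2.2.1 _ hblk hout
      exact ⟨B, hB, hAB, fun h => hK' ((Subgroup.map_mono hAB).trans h)⟩
    intro a ha A hA hAK
    obtain ⟨B, hB, hAB, hBK⟩ := step a ha A hA hAK
    obtain ⟨C, hC, hBC, -⟩ := step a⁻¹ (inv_mem ha) B hB hBK
    have hAC : A ≤ C := by
      refine le_trans (fun x hx => ?_) hBC
      exact ⟨aut a ha x, hAB ⟨x, hx, rfl⟩,
        Subtype.ext (show a⁻¹ * (a * (x : G) * a⁻¹) * a⁻¹⁻¹ = x by group)⟩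
    obtain rfl := hsame hA hC hAC
    have hle : B ≤ A.map (MulEquiv.toMonoidHom (aut a ha)) := fun y hy => by
      refine ⟨aut a⁻¹ (inv_mem ha) y, hBC ⟨y, hy, rfl⟩, Subtype.ext ?_⟩
      show a * (a⁻¹ * (y : G) * a⁻¹⁻¹) * a⁻¹ = y
      group
    rwa [le_antisymm hAB hle]
  obtain ⟨E₀, hE₀, hE₀K⟩ : ∃ E ∈ 𝓑, ¬ E.map X.subtype ≤ K := by
    by_contra hno
    push Not at hno
    refine hXK ?_
    have htop := congrArg (Subgroup.map X.subtype) h𝓑.2.2.2.1
    rw [← MonoidHom.range_eq_map, Subgroup.range_subtype, Subgroup.map_sup] at htop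
    refine htop.ge.trans (sup_le hCsK ?_)
    rw [sSup_eq_iSup, Subgroup.map_iSup]
    exact iSup_le fun E => by rw [Subgroup.map_iSup]; exact iSup_le (hno E)
  set ℬ : Set (Subgroup ↥X) := {B | ∃ a, ∃ ha : a ∈ (T : Subgroup G),
    E₀.map (MulEquiv.toMonoidHom (aut a ha)) = B} with hℬ
  have hsub : ∀ B ∈ ℬ, B ∈ 𝓑 ∧ ¬ B.map X.subtype ≤ K := by
    rintro _ ⟨a, ha, rfl⟩
    exact ⟨hperm a ha E₀ hE₀ hE₀K, by rw [hautG a ha]; exact hconjK a ha _ hE₀K⟩
  have hcomp : ∀ a (ha : a ∈ (T : Subgroup G)) b (hb : b ∈ (T : Subgroup G)),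
      (E₀.map (MulEquiv.toMonoidHom (aut b hb))).map (MulEquiv.toMonoidHom (aut a ha)) =
        E₀.map (MulEquiv.toMonoidHom (aut (a * b) (mul_mem ha hb))) := by
    intro a ha b hb
    refine Subgroup.map_injective X.subtype_injective ?_
    rw [hautG a ha, hautG b hb, hautG (a * b) (mul_mem ha hb), Subgroup.map_map]
    congr 1
    ext x
    simp [mul_assoc]
  have hconjX : ∀ r : ↥X, r ∈ (P : Subgroup ↥X) → ∀ B : Subgroup ↥X, B ∈ ℬ →
      B.map cj[r] ∈ ℬ := by
    rintro r hr _ ⟨a, ha, rfl⟩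
    have hrT : (r : G) ∈ (T : Subgroup G) := hRT (hPR.le ⟨r, hr, rfl⟩)
    refine ⟨(r : G) * a, mul_mem hrT ha, ?_⟩
    rw [← hcomp _ hrT _ ha]
    rfl
  have hone : E₀.map (MulEquiv.toMonoidHom (aut 1 (one_mem _))) = E₀ := by
    refine Subgroup.map_injective X.subtype_injective ?_
    rw [hautG 1 (one_mem _), map_one]
    exact Subgroup.map_id _
  have hE₀ℬ : E₀ ∈ ℬ := ⟨1, one_mem _, hone⟩
  haveI : Nonempty ℬ := ⟨⟨E₀, hE₀ℬ⟩⟩
  -- data in `G`
  let Eg : ℬ → Subgroup G := fun B => (B : Subgroup ↥X).map X.subtype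
  let Wg : ℬ → Subgroup G := fun B => (bWE 2 (B : Subgroup ↥X)).map X.subtype
  have hoX : ∀ B : ℬ, ¬ (B : Subgroup ↥X) ≤ Cfsg.cStarOf 2 (P : Subgroup ↥X) := fun B h =>
    (hsub B B.2).2 ((Subgroup.map_mono h).trans hCsK)
  have hWconj : ∀ a (ha : a ∈ (T : Subgroup G)) (B : Subgroup ↥X),
      (bWE 2 (B.map (MulEquiv.toMonoidHom (aut a ha)))).map X.subtype =
        ((bWE 2 B).map X.subtype).map cj[a] := by
    intro a ha B
    have hinj : Function.Injective (MulEquiv.toMonoidHom (aut a ha)) := (aut a ha).injective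
    have e : bWE 2 (B.map (MulEquiv.toMonoidHom (aut a ha))) =
        (bWE 2 B).map (MulEquiv.toMonoidHom (aut a ha)) := by
      rw [map_commutator, PushRed.map_omegaOneCenter' hinj, LocalCGT.pCoreOf_map hinj]
    rw [e, hautG a ha]
  -- the join of the blocks
  set Y := R ⊔ ⨆ B, Eg B with hY
  have hXY : X ≤ Y := by
    have hTY : (T : Subgroup G) ≤ normalizer (Y : Set G) := by
      refine (le_inf (hTM.trans hMR) ?_).trans (Subgroup.normalizer_inf_normalizer_le_normalizer_sup _ _)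
      intro a ha
      refine mem_normalizer_iff_map_conj_eq.2 (eq_of_le_of_card_ge ?_
        (Subgroup.card_map_of_injective (MulAut.conj a).injective).ge)
      refine Subgroup.map_le_iff_le_comap.2 (iSup_le fun B => Subgroup.map_le_iff_le_comap.1 ?_)
      obtain ⟨B, b, hb, rfl⟩ := B
      exact le_trans (le_of_eq (hautG a ha _).symm) (le_iSup Eg
        ⟨_, a * b, mul_mem ha hb, (hcomp a ha b hb).symm⟩)
    have hYX : Y ≤ X := sup_le hRX (iSup_le fun B => Subgroup.map_subtype_le _)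
    have hTYH : Y ⊔ (T : Subgroup G) ≤ H := sup_le (hYX.trans hXH) hTH
    have hH' : Y ⊔ (T : Subgroup G) = H := (hmax _ le_sup_right hTYH).resolve_right fun h =>
      (hsub E₀ hE₀ℬ).2 (((le_iSup Eg ⟨E₀, hE₀ℬ⟩).trans le_sup_right).trans (le_sup_left.trans h))
    intro x hx
    have hx' : x ∈ ((Y ⊔ (T : Subgroup G) : Subgroup G) : Set G) := by rw [hH']; exact hXH hx
    rw [coe_mul_of_right_le_normalizer_left _ _ hTY] at hx'
    obtain ⟨y, hy, s, hs, rfl⟩ := hx'
    refine Y.mul_mem hy (mem_sup_left ?_)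
    have hsX : s ∈ X := by
      have := X.mul_mem (X.inv_mem (hYX hy)) hx
      rwa [inv_mul_cancel_left] at this
    have hle : R.subgroupOf X = (T : Subgroup G).subgroupOf X := by
      rw [← hP]
      exact (P.is_maximal' (T.isPGroup'.comap_of_injective X.subtype X.subtype_injective)
        (by rw [hP]; exact fun y hy => mem_subgroupOf.2 (hRT (mem_subgroupOf.1 hy)))).symm
    exact mem_subgroupOf.1 (hle.ge (show (⟨s, hsX⟩ : ↥X) ∈ _ from mem_subgroupOf.2 hs))
  -- the product of the modules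
  have hWimg : ∀ a (ha : a ∈ (T : Subgroup G)),
      (bWE 2 (E₀.map (MulEquiv.toMonoidHom (aut a ha)))).map X.subtype =
        img ((bWE 2 E₀).map X.subtype) a := fun a ha => hWconj a ha E₀
  have hTV : (T : Subgroup G) ≤ normalizer ((⨆ B, Wg B : Subgroup G) : Set G) := fun a ha => by
    refine mem_normalizer_iff_map_conj_eq.2 (eq_of_le_of_card_ge ?_
      (Subgroup.card_map_of_injective (MulAut.conj a).injective).ge)
    refine Subgroup.map_le_iff_le_comap.2 (iSup_le fun B => Subgroup.map_le_iff_le_comap.1 ?_)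
    obtain ⟨B, b, hb, rfl⟩ := B
    refine le_trans ?_ (le_iSup Wg ⟨_, a * b, mul_mem ha hb, rfl⟩)
    exact ((hWconj a ha _).symm.trans (by rw [hcomp a ha b hb])).le
  have hS : ∀ B : ℬ, SBlock 2 (B : Subgroup ↥X) := fun B =>
    ⟨⟨P, h𝓑.1 B (hsub B B.2).1⟩, NearComp.subnormal_of_structure h𝓑 (hsub B B.2).1⟩
  have hWR : ∀ B : ℬ, Wg B ≤ R := fun B => (Subgroup.map_mono (((Baumann.Sub.WE_le_gV hGX
    (hS B)).trans Baumann.Sub.gV_le).trans (Core.pCore_le_sylow P))).trans hPR.le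
  have hWE : ∀ B : ℬ, Wg B ≤ Eg B := fun B => Subgroup.map_mono (Degree.WE_le_E (hS B))
  have hWne : ∀ B : ℬ, Wg B ≠ ⊥ := fun B e => Baumann.Sub.WE_ne hGX (hS B)
    ((Subgroup.map_eq_bot_iff_of_injective _ X.subtype_injective).1 e)
  have hcommB : ∀ (B : ℬ) (d : ↥X), d ∈ (P : Subgroup ↥X) →
      d ∈ normalizer ((B : Subgroup ↥X) : Set ↥X) →
      (d : G) ∈ centralizer (Wg B : Set G) → ∀ e ∈ Eg B, ⁅(d : G), e⁆ ∈ Wg B := by
    rintro B d - hd hdW _ ⟨e, he, rfl⟩
    exact ⟨⁅d, e⁆, Degree.commutator_centralizes hGX (hS B) hd ((map_centralizer'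
      X.subtype_injective).1 hdW) he, map_commutatorElement _ _ _⟩
  have hcommE : ∀ A B : ℬ, A ≠ B → ∀ a ∈ Eg A, ∀ b ∈ Eg B, a * b = b * a := by
    rintro A B hne _ ⟨a, ha, rfl⟩ _ ⟨b, hb, rfl⟩
    exact congrArg Subtype.val (mem_centralizer_iff.1 (commutator_eq_bot_iff_le_centralizer.1
      (h𝓑.2.2.1 B (hsub B B.2).1 A (hsub A A.2).1 fun e => hne (Subtype.ext e.symm)) hb) a ha)
  -- orbits under `P`
  have mkOrbit : ∀ ℬ' : Set (Subgroup ↥X), ℬ' ⊆ ℬ → ℬ'.Nonempty →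
      (∀ r ∈ (P : Subgroup ↥X), ∀ B ∈ ℬ', B.map cj[r] ∈ ℬ') →
      (∀ A ∈ ℬ', ∀ B ∈ ℬ', ∃ r ∈ (P : Subgroup ↥X), A.map cj[r] = B) → Orbit P ℬ' :=
    fun ℬ' hs hne hc ht =>
      { hG := hGX
        blk := fun B hB => h𝓑.1 B (hsub B (hs hB)).1
        out := fun B hB => hoX ⟨B, hs hB⟩
        sub := fun B hB => NearComp.subnormal_of_structure h𝓑 (hsub B (hs hB)).1
        deg := fun B hB => hdeg B (hsub B (hs hB)).1
        comm := fun A hA B hB hne => h𝓑.2.2.1 A (hsub A (hs hA)).1 B (hsub B (hs hB)).1 hne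
        conj := hc, trans := ht, ne := hne }
  by_cases htr : ∀ B ∈ ℬ, ∃ r ∈ (P : Subgroup ↥X), E₀.map cj[r] = B
  · -- one orbit
    left
    have o : Orbit P ℬ := mkOrbit ℬ subset_rfl ⟨E₀, hE₀ℬ⟩ hconjX (by
      intro A hA B hB
      obtain ⟨r, hr, rfl⟩ := htr A hA
      obtain ⟨s, hs, rfl⟩ := htr B hB
      refine ⟨s * r⁻¹, mul_mem hs (inv_mem hr), ?_⟩
      rw [Subgroup.map_map]
      congr 1
      ext x
      simp [mul_assoc])
    obtain ⟨w⟩ := exists_tw (M := M) P hPR o hMR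
    have hiso : ⨆ B : ℬ, Wg B = (orbV ℬ).map X.subtype := by
      rw [orbV, iSup_subtype', Subgroup.map_iSup]
    rw [← hiso] at w
    have hTs : (T : Subgroup G) ≤ w.stab := fun a ha => w.mem_stab_iff.2 ⟨hTM ha, by
      show R ⊓ centralizer (img (⨆ B, Wg B) a : Set G) =
        R ⊓ centralizer (img (⨆ B, Wg B) 1 : Set G)
      rw [img_one, img_eq_of_mem (hTV ha)]⟩
    refine exists_invariant_of_central (T := (T : Subgroup G)) (X := X) Eg Wg hWR hWne
      (hRT.trans hTV) ?_ hTM hMR hXY hHXT ?_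
    · intro B d hd hdV e he
      obtain ⟨d', hd', rfl⟩ := hPR.ge hd
      refine hcommB B d' hd' ?_ (centralizer_le (le_iSup Wg B) hdV) e he
      refine o.cent_normalizes hd' (fun v hv => X.subtype_injective ?_) B.2
      rw [map_mul, map_mul]
      exact mem_centralizer_iff.1 hdV _ (hiso.ge ⟨v, hv, rfl⟩)
    · intro g hg
      have := w.apart_of_sylow_le_stab hTs hg
      rwa [Apart, img_one] at this
  -- two orbits: there are exactly two blocks
  push Not at htr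
  obtain ⟨_, ⟨t, ht, rfl⟩, hB₁⟩ := htr
  set B₁ := E₀.map (MulEquiv.toMonoidHom (aut t ht)) with hB₁d
  have hB₁ℬ : B₁ ∈ ℬ := ⟨t, ht, rfl⟩
  obtain ⟨p, hp, hp2, x₀, hx₀, hxp, hxW⟩ := exists_odd_moving hGX (hS ⟨E₀, hE₀ℬ⟩)
  have hthree : ∀ A : Fin 3 → ℬ, Function.Injective A → False := by
    intro A hA
    haveI : Fact p.Prime := ⟨hp⟩
    choose a ha haA using fun i => (A i).2
    refine false_of_sections hp2 hQ (fun i => Wg (A i))
      ((T.isPGroup'.to_le hRT).to_le (iSup_le fun i => hWR (A i))) (hWne _)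
      (fun i => a i * (x₀ : G) * (a i)⁻¹) (fun i => ?_) (fun i j hij => ?_) (fun i hc => ?_)
      (fun i => by rw [conj_pow, ← Subgroup.coe_pow, hxp, Subgroup.coe_one, mul_one, mul_inv_cancel])
      (hcommE (A 1) (A 2) (fun e => absurd (hA e) (by decide)) _ ?_ _ ?_)
    rotate_left 3
    · exact ⟨aut _ (ha 1) x₀, (haA 1).le ⟨x₀, hx₀, rfl⟩, rfl⟩
    · exact ⟨aut _ (ha 2) x₀, (haA 2).le ⟨x₀, hx₀, rfl⟩, rfl⟩
    · exact (Subgroup.map_mono (Baumann.Sub.le_normalizer_WE (hS (A i)))).trans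
        (Subgroup.le_normalizer_map _) ⟨aut _ (ha i) x₀, (haA i).le ⟨x₀, hx₀, rfl⟩, rfl⟩
    · refine mem_centralizer_iff.2 fun v hv => ?_
      exact hcommE (A j) (A i) (fun e => hij (hA e.symm)) v (hWE (A j) hv) _
        ⟨aut _ (ha i) x₀, (haA i).le ⟨x₀, hx₀, rfl⟩, rfl⟩
    · refine hxW (mem_centralizer_iff.2 fun v hv => Subtype.ext ?_)
      have h1 : a i * (v : G) * (a i)⁻¹ ∈ Wg (A i) := by
        show _ ∈ (bWE 2 (A i : Subgroup ↥X)).map X.subtype
        rw [← haA i, hWimg (a i) (ha i)]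
        exact conj_mem_img _ ⟨v, hv, rfl⟩
      have h2 := congrArg (fun y => (a i)⁻¹ * y * a i) (mem_centralizer_iff.1 hc _ h1)
      simpa [mul_assoc] using h2
  have hℬ2 : ∀ B ∈ ℬ, B = E₀ ∨ B = B₁ := by
    intro B hB
    by_contra h
    push Not at h
    have hne : E₀ ≠ B₁ := fun e => hB₁ 1 (one_mem _) (by
      rw [map_one]; exact (Subgroup.map_id _).trans e)
    refine hthree ![⟨E₀, hE₀ℬ⟩, ⟨B₁, hB₁ℬ⟩, ⟨B, hB⟩] fun i j e => ?_
    have e' := congrArg Subtype.val e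
    fin_cases i <;> fin_cases j <;>
      simp [hne, hne.symm, h.1, h.2, h.1.symm, h.2.symm] at e' ⊢
  have hPE₀ : ∀ r ∈ (P : Subgroup ↥X), E₀.map cj[r] = E₀ := fun r hr =>
    (hℬ2 _ (hconjX r hr E₀ hE₀ℬ)).resolve_right (hB₁ r hr)
  have hPB : ∀ B : ℬ, (P : Subgroup ↥X) ≤ normalizer ((B : Subgroup ↥X) : Set ↥X) := by
    intro B r hr
    refine mem_normalizer_iff_map_conj_eq.2 ?_
    rcases hℬ2 _ B.2 with e | e
    · rw [e]; exact hPE₀ r hr
    · rcases hℬ2 _ (hconjX r hr B B.2) with e' | e'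
      · exact absurd (((Subgroup.map_injective (MulAut.conj r).injective) (e'.trans (hPE₀ r hr).symm)).symm.trans e)
          (fun e'' => hB₁ 1 (one_mem _) (by rw [map_one]; exact (Subgroup.map_id _).trans e''))
      · exact e'.trans e.symm
  set E := E₀.map X.subtype with hE
  set W := (bWE 2 E₀).map X.subtype with hW
  have hblk := h𝓑.1 E₀ hE₀
  have hsubn := NearComp.subnormal_of_structure h𝓑 hE₀
  have hbase : Base R E W := by
    rw [← hPR]
    exact (base_of_block hGX P hblk hsubn (hPB ⟨E₀, hE₀ℬ⟩)).map X.subtype_injective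
  have hnormE : ∀ s (hs : s ∈ (T : Subgroup G)), s ∈ normalizer (E : Set G) ↔
      E₀.map (MulEquiv.toMonoidHom (aut s hs)) = E₀ := fun s hs => by
    rw [mem_normalizer_iff_map_conj_eq, ← (Subgroup.map_injective X.subtype_injective).eq_iff,
      hautG s hs]
    exact Iff.rfl
  by_cases hmov : ∃ g ∈ M, ¬ Apart W g 1
  · refine Or.inr ⟨E, W, t, hTM, hRT, hR, ?_, hbase, ?_, ht, fun h => ?_, ?_, fun s hs => ?_,
      fun s hs h => ?_, hmov⟩
    · obtain ⟨w⟩ := exists_tw (M := M) P hPR (mkOrbit {E₀} (by simpa using hE₀ℬ) ⟨E₀, rfl⟩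
        (fun r hr B hB => by rw [Set.mem_singleton_iff.1 hB]; exact hPE₀ r hr)
        (fun A hA B hB => ⟨1, one_mem _, by
          rw [Set.mem_singleton_iff.1 hA, Set.mem_singleton_iff.1 hB, map_one]
          exact Subgroup.map_id _⟩)) hMR
      rw [show orbV {E₀} = bWE 2 E₀ by simp [orbV]] at w
      exact ⟨w⟩
    · rw [← hPR]
      exact (kind_of_block hGX P hblk (hoX ⟨E₀, hE₀ℬ⟩) hsubn (hdeg E₀ hE₀)
        (hPB ⟨E₀, hE₀ℬ⟩)).map X.subtype_injective
    · exact hB₁ 1 (one_mem _) (by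
        rw [map_one]; exact (Subgroup.map_id _).trans ((hnormE t ht).1 h).symm)
    · intro e he f hf
      refine hcommE ⟨E₀, hE₀ℬ⟩ ⟨B₁, hB₁ℬ⟩ (fun h => hB₁ 1 (one_mem _) ?_) e he _ ?_
      · rw [map_one]; exact (Subgroup.map_id _).trans (congrArg Subtype.val h)
      · show _ ∈ B₁.map X.subtype
        rw [hB₁d, hautG t ht]
        exact conj_mem_img t hf
    · rcases hℬ2 _ ⟨s, hs, rfl⟩ with e | e
      · exact Or.inl ((hnormE s hs).2 e)
      · refine Or.inr ((hnormE _ (mul_mem (inv_mem ht) hs)).2 ?_)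
        rw [← hcomp _ (inv_mem ht) _ hs, e, hcomp _ (inv_mem ht) _ ht]
        simp only [inv_mul_cancel]
        exact hone
    · refine mem_normalizer_iff_map_conj_eq.2 ?_
      show W.map cj[s] = W
      rw [hW, ← hWconj s hs, (hnormE s hs).1 h]
  left
  push Not at hmov
  have hcen : ∀ g ∈ M, ∀ A B : ℬ, img (Wg A) g ≤ centralizer (Wg B : Set G) := by
    rintro g hg ⟨A, a, ha, rfl⟩ ⟨B, b, hb, rfl⟩
    show img ((bWE 2 _).map X.subtype) g ≤ centralizer ((bWE 2 _).map X.subtype : Set G)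
    rw [hWimg a ha, hWimg b hb]
    show (img W a).map cj[g] ≤ _
    rw [img_img]
    have := (apart_translate W b (b⁻¹ * (g * a)) 1).2
      (hmov _ (mul_mem (inv_mem (hTM hb)) (mul_mem hg (hTM ha))))
    rwa [mul_inv_cancel_left, mul_one] at this
  refine exists_invariant_of_central (T := (T : Subgroup G)) (X := X) Eg Wg hWR hWne
    (hRT.trans hTV) ?_ hTM hMR hXY hHXT fun g hg => ?_
  · intro B d hd hdV e he
    obtain ⟨d', hd', rfl⟩ := hPR.ge hd
    exact hcommB B d' hd' (hPB B hd') (centralizer_le (le_iSup Wg B) hdV) e he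
  · show (⨆ B, Wg B).map cj[g] ≤ _
    rw [Subgroup.map_iSup]
    refine iSup_le fun A => ?_
    rw [Subgroup.le_centralizer_iff]
    refine iSup_le fun B => ?_
    rw [Subgroup.le_centralizer_iff]
    exact hcen g hg A B

end Cfsg.Agent.QtkePush
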