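import Cfsg.Agent.PushOdd.Core
import Cfsg.Agent.Baumann.Normal

/-!
# The images of a module under the normalizer of a 2-subgroup

`R` is a 2-group, `V ≤ R` the module of an orbit of blocks and `M` normalises `R`.  The centralisers
in `R` of the images of `V` fall into pairs, two images commuting unless their centralisers are
partners.
-/

set_option autoImplicit false
set_option linter.unusedSectionVars false
set_option linter.style.haveILetI false

namespace Cfsg.Agent.PushOdd

open Subgroup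
open scoped commutatorElement

variable {S : Type*} [Group S] [Finite S] {V C₀ : Subgroup S} [hVn : V.Normal] [C₀.Normal]

local notation "im[" φ "]" => Subgroup.map (MulEquiv.toMonoidHom φ)
local notation "𝒟" => centralizer (V : Set S)

/-- Two moving images commute and have the same centraliser. -/
theorem moving_eq (h : Pack V C₀) {φ ψ : MulAut S} (hφ : ¬ im[φ] V ≤ 𝒟) (hψ : ¬ im[ψ] V ≤ 𝒟) :
    centralizer (im[φ] V : Set S) = centralizer (im[ψ] V : Set S) := by
  have hφ' : ¬ im[φ⁻¹] V ≤ 𝒟 := fun hle => hφ fun x hx => by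
    obtain ⟨v, hv, rfl⟩ := hx
    refine mem_centralizer_iff.2 fun w hw => ?_
    have := mem_centralizer_iff.1 (hle ⟨w, hw, rfl⟩) v hv
    simpa using (congrArg φ this).symm
  set X := im[φ] V with hX
  set X' := im[ψ] V with hX'
  obtain ⟨hP, hC⟩ := moving_pair h hφ hψ
  obtain ⟨-, hC'⟩ := moving_pair h hψ hφ
  obtain ⟨hCX', -, -⟩ := moving_facts h hψ rfl
  haveI hDn : (centralizer (V : Set S)).Normal := Subgroup.normal_centralizer
  have hXc := im_comm φ h
  have hX'c := im_comm ψ h
  have hcomm : X' ≤ centralizer (X : Set S) := by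
    by_cases h2 : im[φ⁻¹ * ψ] V ≤ 𝒟
    · intro x' hx'
      obtain ⟨v, hv, rfl⟩ := hx'
      refine mem_centralizer_iff.2 ?_
      rintro _ ⟨w, hw, rfl⟩
      have := mem_centralizer_iff.1 (h2 ⟨v, hv, rfl⟩) w hw
      simpa using congrArg φ this
    obtain ⟨hP2, -⟩ := moving_pair h hφ' h2
    have e := congrArg (Subgroup.map (MulEquiv.toMonoidHom φ)) hP2
    rw [Subgroup.map_sup, Subgroup.map_sup, im_im, im_im, mul_inv_cancel, im_one,
      im_centralizer, ← mul_assoc, mul_inv_cancel, one_mul] at e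
    set Γ := centralizer (X : Set S) with hΓ
    haveI : Γ.Normal := by
      haveI := im_normal φ hVn
      rw [hΓ]; exact Subgroup.normal_centralizer
    have e1 := Core.card_sup_mul_card_inf V Γ
    have e2 := Core.card_sup_mul_card_inf X' Γ
    rw [← e, card_im] at e2
    have hcard : Nat.card (X' ⊓ Γ : Subgroup S) = Nat.card (X' ⊓ 𝒟 : Subgroup S) := by
      rw [← (image_exact h ψ).2, h.unique _ _ (exact_of_moves h hψ) (exact_of_moves h hφ),
        (image_exact h φ).1]
      exact Nat.eq_of_mul_eq_mul_left Nat.card_pos (e2.trans e1.symm)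
    have hle : X' ⊓ 𝒟 ≤ X' ⊓ Γ := fun d hd => ⟨hd.1, hC' ⟨hd.2, mem_centralizer_iff.2 fun y hy =>
      hX'c y hy d hd.1⟩⟩
    have heq := eq_of_le_of_card_ge hle hcard.le
    obtain ⟨y, hy, hgood⟩ := h.good _ (exact_of_moves h hψ)
    exfalso
    have hyP : y ∈ X ⊔ 𝒟 := hP.ge (mem_sup_left hy)
    rw [mem_sup_of_normal_right] at hyP
    obtain ⟨x, hx, δ, hδ, hxd⟩ := hyP
    have hδ' := (moving_facts h hφ rfl).2.1 hδ
    haveI : (𝒟 ⊓ Γ : Subgroup S).Normal := by infer_instance
    rw [mem_sup_of_normal_right] at hδ'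
    obtain ⟨v, hv, c, hc, hvc⟩ := hδ'
    have hcx : x * c = c * x := mem_centralizer_iff.1 hc.2 x hx
    have hcv : v * c = c * v := mem_centralizer_iff.1 hc.1 v hv
    have hsq : ∀ {θ : MulAut S} {z : S}, z ∈ im[θ] V → z * z = 1 := by
      rintro θ _ ⟨z, hz, rfl⟩
      simp only [MulEquiv.coe_toMonoidHom, ← map_mul, h.vsq z hz, map_one]
    have hx2 : x⁻¹ = x := inv_eq_of_mul_eq_one_right (hsq hx)
    have hv2 : v⁻¹ = v := inv_eq_of_mul_eq_one_right (h.vsq v hv)
    have hyc : y = x * v * c := by rw [← hxd, ← hvc, mul_assoc]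
    have h1 : ⁅x, v⁆ * (c * c) = 1 := by
      have e3 := hsq hy
      rw [hyc] at e3
      calc ⁅x, v⁆ * (c * c) = x * v * (x * v * c) * c := by
            rw [commutatorElement_def, hx2, hv2]; group
        _ = x * v * (c * x * v) * c := by
            rw [show x * v * c = c * x * v by rw [mul_assoc, hcv, ← mul_assoc, hcx]]
        _ = 1 := by rw [← e3]; group
    have hxv : ⁅x, v⁆ ∈ C₀ := by
      rw [eq_inv_of_mul_eq_one_left h1]
      exact inv_mem (h.dsq c hc.1)
    have hvy : ⁅v, y⁆ ∈ C₀ := by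
      have e4 : ⁅v, y⁆ = ⁅v, x⁆ := by
        rw [hyc]
        calc ⁅v, x * v * c⁆ = v * x * v * (c * v⁻¹) * c⁻¹ * v⁻¹ * x⁻¹ := by
              rw [commutatorElement_def]; group
          _ = ⁅v, x⁆ := by
              rw [show c * v⁻¹ = v⁻¹ * c by
                rw [eq_inv_mul_iff_mul_eq, ← mul_assoc, hcv]; group, commutatorElement_def]
              group
      rw [e4, ← commutatorElement_inv]
      exact inv_mem hxv
    have hvL := hgood v hv hvy
    rw [h.unique _ _ (exact_of_moves h hψ) (exact_of_moves h hφ), (image_exact h φ).1] at hvL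
    have hyΓ : y ∈ X' ⊓ Γ := ⟨hy, by
      rw [hyc]
      exact mul_mem (mul_mem (mem_centralizer_iff.2 fun z hz => hXc z hz x hx) hvL.2) hc.2⟩
    rw [← heq] at hyΓ
    refine hψ fun z hz => mem_centralizer_iff.2 fun w hw => ?_
    have hw' := hgood w hw (by
      rw [commutatorElement_eq_one_iff_mul_comm.2 (mem_centralizer_iff.1 hyΓ.2 w hw)]
      exact one_mem _)
    rw [(image_exact h ψ).1] at hw'
    exact (mem_centralizer_iff.1 hw'.2 z hz).symm
  have hle : centralizer (X' : Set S) ≤ centralizer (X : Set S) := by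
    intro g hg
    have hg' := hCX' hg
    rw [mem_sup_of_normal_right] at hg'
    obtain ⟨x', hx', d, hd, rfl⟩ := hg'
    refine mul_mem (hcomm hx') (hC' ⟨hd, ?_⟩)
    have hx'C : x' ∈ centralizer (X' : Set S) := mem_centralizer_iff.2 fun y hy => hX'c y hy x' hx'
    have := mul_mem (inv_mem hx'C) hg
    rwa [inv_mul_cancel_left] at this
  exact (eq_of_le_of_card_ge hle (by
    rw [hX, hX', ← im_centralizer, ← im_centralizer, card_im, card_im])).symm

end Cfsg.Agent.PushOdd

namespace Cfsg.Agent.QtkePush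

open Subgroup PushOdd
open scoped commutatorElement

universe u

variable {G : Type u} [Group G] [Finite G]

local notation "cj[" g "]" => MulEquiv.toMonoidHom (MulAut.conj g)

/-- Conjugation on a normalised subgroup. -/
def cjR (R : Subgroup G) (g : G) (hg : g ∈ normalizer (R : Set G)) : MulAut ↥R where
  toFun r := ⟨g * r * g⁻¹, (mem_normalizer_iff.1 hg _).1 r.2⟩
  invFun r := ⟨g⁻¹ * r * g, by
    simpa using (mem_normalizer_iff.1 (inv_mem hg) _).1 r.2⟩
  left_inv r := Subtype.ext (by simp [mul_assoc])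
  right_inv r := Subtype.ext (by simp [mul_assoc])
  map_mul' r s := Subtype.ext (by simp [mul_assoc])

theorem coe_cjR {R : Subgroup G} {g : G} (hg : g ∈ normalizer (R : Set G)) (r : ↥R) :
    ((cjR R g hg r : ↥R) : G) = g * r * g⁻¹ := rfl

/-- The image of `V` under `g`. -/
abbrev img (V : Subgroup G) (g : G) : Subgroup G := V.map cj[g]

theorem mem_img {V : Subgroup G} {g x : G} : x ∈ img V g ↔ g⁻¹ * x * g ∈ V := by
  constructor
  · rintro ⟨v, hv, rfl⟩
    convert hv using 1
    simp [mul_assoc]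
  · intro h
    exact ⟨_, h, by simp [mul_assoc]⟩

theorem conj_mem_img {V : Subgroup G} (g : G) {v : G} (hv : v ∈ V) : g * v * g⁻¹ ∈ img V g :=
  ⟨v, hv, rfl⟩

theorem img_img (V : Subgroup G) (a g : G) : (img V g).map cj[a] = img V (a * g) := by
  rw [Subgroup.map_map]
  congr 1
  ext x
  simp [mul_assoc]

theorem img_one (V : Subgroup G) : img V 1 = V := by
  ext x
  rw [mem_img]
  simp

theorem img_eq_of_mem {V : Subgroup G} {g : G} (hg : g ∈ normalizer (V : Set G)) : img V g = V :=
  mem_normalizer_iff_map_conj_eq.1 hg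

/-- A module in `R` with the hypotheses of the twin argument, and a group normalising `R`. -/
structure Tw (M R V : Subgroup G) where
  hMR : M ≤ normalizer (R : Set G)
  hVR : V ≤ R
  hVn : R ≤ normalizer (V : Set G)
  C₀ : Subgroup ↥R
  hC₀ : C₀.Normal
  pack : haveI := hC₀; Pack (V.subgroupOf R) C₀

/-- `C_R(V^g)`. -/
abbrev dd (R V : Subgroup G) (g : G) : Subgroup G := R ⊓ centralizer (img V g : Set G)

/-- The images under `g` and `h` commute. -/
def Apart (V : Subgroup G) (g h : G) : Prop := img V g ≤ centralizer (img V h : Set G)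

theorem Apart.symm {V : Subgroup G} {g h : G} (a : Apart V g h) : Apart V h g :=
  Subgroup.le_centralizer_iff.1 a

theorem apart_translate (V : Subgroup G) (a g h : G) :
    Apart V (a * g) (a * h) ↔ Apart V g h := by
  have key : ∀ a g h : G, Apart V g h → Apart V (a * g) (a * h) := by
    intro a g h hgh
    rw [Apart, ← img_img, ← img_img]
    rintro _ ⟨x, hx, rfl⟩
    refine mem_centralizer_iff.2 ?_
    rintro _ ⟨y, hy, rfl⟩
    have := mem_centralizer_iff.1 (hgh hx) y hy
    simp only [MulEquiv.coe_toMonoidHom, ← map_mul, this]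
  refine ⟨fun hh => ?_, key a g h⟩
  have := key a⁻¹ _ _ hh
  rwa [inv_mul_cancel_left, inv_mul_cancel_left] at this

namespace Tw

variable {M R V : Subgroup G} (w : Tw M R V)
include w

theorem norm_R {g : G} (hg : g ∈ M) : g ∈ normalizer (R : Set G) := w.hMR hg

theorem img_le_R {g : G} (hg : g ∈ M) : img V g ≤ R := by
  rintro _ ⟨v, hv, rfl⟩
  exact (mem_normalizer_iff.1 (w.norm_R hg) _).1 (w.hVR hv)

theorem R_le_normalizer_img {g : G} (hg : g ∈ M) : R ≤ normalizer (img V g : Set G) := by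
  refine Subgroup.le_normalizer_iff.mpr fun r hr => ?_
  intro x hx
  rw [mem_img] at hx ⊢
  have hr' : g⁻¹ * r * g ∈ R := by
    have := (mem_normalizer_iff.1 (w.norm_R (inv_mem hg)) r).1 hr
    rwa [inv_inv] at this
  have := (mem_normalizer_iff.1 (w.hVn hr') _).1 hx
  convert this using 1
  group

theorem img_subgroupOf {g : G} (hg : g ∈ M) :
    (V.subgroupOf R).map (MulEquiv.toMonoidHom (cjR R g (w.norm_R hg))) =
      (img V g).subgroupOf R := by
  ext x
  constructor
  · rintro ⟨v, hv, rfl⟩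
    exact mem_subgroupOf.2 (conj_mem_img g (mem_subgroupOf.1 hv))
  · intro hx
    obtain ⟨v, hv, e⟩ := mem_subgroupOf.1 hx
    exact ⟨⟨v, w.hVR hv⟩, mem_subgroupOf.2 hv, Subtype.ext e⟩

theorem mem_cent_subgroupOf {U : Subgroup G} (hU : U ≤ R) {x : ↥R} :
    x ∈ centralizer (U.subgroupOf R : Set ↥R) ↔ (x : G) ∈ centralizer (U : Set G) := by
  constructor
  · intro h
    refine mem_centralizer_iff.2 fun y hy => ?_
    exact congrArg Subtype.val
      (mem_centralizer_iff.1 h ⟨y, hU hy⟩ (mem_subgroupOf.2 hy) :)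
  · intro h
    exact mem_centralizer_iff.2 fun y hy => Subtype.ext (by
      rw [Subgroup.coe_mul, Subgroup.coe_mul]
      exact mem_centralizer_iff.1 h y (mem_subgroupOf.1 hy))

theorem apart_one_iff {g : G} (hg : g ∈ M) :
    (V.subgroupOf R).map (MulEquiv.toMonoidHom (cjR R g (w.norm_R hg))) ≤
        centralizer (V.subgroupOf R : Set ↥R) ↔ Apart V g 1 := by
  rw [w.img_subgroupOf hg, Apart, img_one]
  constructor
  · intro h x hx
    exact (w.mem_cent_subgroupOf w.hVR).1 (h (x := ⟨x, w.img_le_R hg hx⟩) (mem_subgroupOf.2 hx))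
  · exact fun h x hx => (w.mem_cent_subgroupOf w.hVR).2 (h (mem_subgroupOf.1 hx))

theorem V_normal : (V.subgroupOf R).Normal := normal_subgroupOf_of_le_normalizer w.hVn

theorem dd_translate {a : G} (ha : a ∈ M) (g : G) :
    (dd R V g).map cj[a] = dd R V (a * g) := by
  have hR : R.map cj[a] = R := mem_normalizer_iff_map_conj_eq.1 (w.norm_R ha)
  rw [Subgroup.map_inf _ _ _ (MulAut.conj a).injective, hR, Baumann.map_centralizer_conj, img_img]

/-- Moving images have one centraliser. -/
theorem dd_eq_of_one {g h : G} (hg : g ∈ M) (hh : h ∈ M) (a : ¬ Apart V g 1)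
    (b : ¬ Apart V h 1) : dd R V g = dd R V h := by
  haveI := w.hC₀
  haveI := w.V_normal
  have e := moving_eq w.pack ((w.apart_one_iff hg).not.2 a) ((w.apart_one_iff hh).not.2 b)
  rw [w.img_subgroupOf hg, w.img_subgroupOf hh] at e
  ext x
  simp only [mem_inf]
  refine and_congr_right fun hx => ?_
  rw [← w.mem_cent_subgroupOf (w.img_le_R hg) (x := ⟨x, hx⟩), e,
    w.mem_cent_subgroupOf (w.img_le_R hh)]

/-- The centraliser of the partner is unique. -/
theorem dd_eq_of_twin {k g h : G} (hk : k ∈ M) (hg : g ∈ M) (hh : h ∈ M) (a : ¬ Apart V g k)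
    (b : ¬ Apart V h k) : dd R V g = dd R V h := by
  have key : ∀ {x : G}, ¬ Apart V x k → ¬ Apart V (k⁻¹ * x) 1 := by
    intro x hx h'
    refine hx ?_
    have := (apart_translate V k (k⁻¹ * x) 1).2 h'
    rwa [mul_inv_cancel_left, mul_one] at this
  have e := congrArg (Subgroup.map cj[k])
    (w.dd_eq_of_one (mul_mem (inv_mem hk) hg) (mul_mem (inv_mem hk) hh) (key a) (key b))
  rwa [w.dd_translate hk, w.dd_translate hk, mul_inv_cancel_left, mul_inv_cancel_left] at e

theorem apart_iff_le_dd {g h : G} (hh : h ∈ M) : Apart V h g ↔ img V h ≤ dd R V g :=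
  ⟨fun a => le_inf (w.img_le_R hh) a, fun a => a.trans inf_le_right⟩

theorem apart_congr {g g' h : G} (hh : h ∈ M) (e : dd R V g = dd R V g') :
    Apart V h g ↔ Apart V h g' := by
  rw [w.apart_iff_le_dd hh, w.apart_iff_le_dd hh, e]

theorem apart_self {g : G} : Apart V g g := by
  rintro _ ⟨x, hx, rfl⟩
  refine mem_centralizer_iff.2 ?_
  rintro _ ⟨y, hy, rfl⟩
  haveI := w.hC₀
  have h := congrArg Subtype.val (w.pack.vab ⟨y, w.hVR hy⟩ (mem_subgroupOf.2 hy) ⟨x, w.hVR hx⟩
    (mem_subgroupOf.2 hx))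
  simp only [MulEquiv.coe_toMonoidHom, ← map_mul]
  exact congrArg _ h

/-- The exact count for a moving image. -/
theorem card_exact {g : G} (hg : g ∈ M) (a : ¬ Apart V g 1) :
    Nat.card (V ⊓ centralizer (img V g : Set G) : Subgroup G) =
      Nat.card (img V g ⊓ centralizer (V : Set G) : Subgroup G) := by
  haveI := w.hC₀
  haveI := w.V_normal
  obtain ⟨h1, h2⟩ := image_exact w.pack (cjR R g (w.norm_R hg))
  rw [h1, w.img_subgroupOf hg] at h2
  have e : ∀ {U U' : Subgroup G}, U ≤ R → U' ≤ R →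
      Nat.card (U.subgroupOf R ⊓ centralizer (U'.subgroupOf R : Set ↥R) : Subgroup ↥R) =
        Nat.card (U ⊓ centralizer (U' : Set G) : Subgroup G) := by
    intro U U' hU hU'
    rw [← Subgroup.card_map_of_injective R.subtype_injective]
    congr 2
    ext x
    constructor
    · rintro ⟨y, hy, rfl⟩
      exact ⟨mem_subgroupOf.1 hy.1, (w.mem_cent_subgroupOf hU').1 hy.2⟩
    · rintro ⟨hx, hxc⟩
      exact ⟨⟨x, hU hx⟩, ⟨mem_subgroupOf.2 hx, (w.mem_cent_subgroupOf hU').2 hxc⟩, rfl⟩
  rw [e w.hVR (w.img_le_R hg), e (w.img_le_R hg) w.hVR] at h2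
  exact h2

/-- The stabiliser in `M` of `C_R(V)`. -/
def stab (_ : Tw M R V) : Subgroup G := M ⊓ normalizer (dd R V 1 : Set G)

theorem mem_stab_iff {g : G} : g ∈ w.stab ↔ g ∈ M ∧ dd R V g = dd R V 1 := by
  rw [stab, mem_inf]
  refine and_congr_right fun hg => ?_
  rw [mem_normalizer_iff_map_conj_eq]
  show (dd R V 1).map cj[g] = _ ↔ _
  rw [w.dd_translate hg, mul_one]

/-- A moving image gives a subgroup containing the stabiliser with index two. -/
theorem exists_pairStab {g : G} (hg : g ∈ M) (a : ¬ Apart V g 1) :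
    ∃ P : Subgroup G, P ≤ M ∧ (∀ x, x ∈ P ↔ x ∈ M ∧ (dd R V x = dd R V 1 ∨ dd R V x = dd R V g)) ∧
      Nat.card P = 2 * Nat.card w.stab := by
  have gg : dd R V (g * g) = dd R V 1 := by
    have a' : ¬ Apart V g⁻¹ 1 := fun h => a (by
      have := (apart_translate V g g⁻¹ 1).2 h
      rw [mul_inv_cancel, mul_one] at this
      exact this.symm)
    have e := congrArg (Subgroup.map cj[g]) (w.dd_eq_of_one (inv_mem hg) hg a' a)
    rw [w.dd_translate hg, w.dd_translate hg, mul_inv_cancel] at e
    exact e.symm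
  have hne : dd R V g ≠ dd R V 1 := fun e => a <| by
    rw [← w.apart_congr hg e]
    exact w.apart_self
  have step : ∀ {x : G}, x ∈ M → dd R V x = dd R V 1 → dd R V (x * g) = dd R V g := by
    intro x hx e
    refine w.dd_eq_of_one (mul_mem hx hg) hg (fun h => a ?_) a
    rw [← w.apart_congr (mul_mem hx hg) e, ← apart_translate V x⁻¹, inv_mul_cancel_left,
      inv_mul_cancel] at h
    exact h
  have trans' : ∀ {x y z : G}, x ∈ M → dd R V y = dd R V z → dd R V (x * y) = dd R V (x * z) := by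
    intro x y z hx e
    rw [← w.dd_translate hx, ← w.dd_translate hx, e]
  let S : Set G := {x | x ∈ M ∧ (dd R V x = dd R V 1 ∨ dd R V x = dd R V g)}
  have hmul : ∀ {x y : G}, x ∈ S → y ∈ S → x * y ∈ S := by
    rintro x y ⟨hx, ex⟩ ⟨hy, ey⟩
    refine ⟨mul_mem hx hy, ?_⟩
    rcases ey with ey | ey
    · rw [trans' hx ey, mul_one]; exact ex
    · rw [trans' hx ey]
      rcases ex with ex | ex
      · exact Or.inr (step hx ex)
      · left
        -- `x = g k` with `k` fixing the centraliser
        have hk : dd R V (g⁻¹ * x) = dd R V 1 := by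
          rw [trans' (inv_mem hg) ex, inv_mul_cancel]
        have h1 := step (mul_mem (inv_mem hg) hx) hk
        have h2 := trans' hg h1
        rw [← mul_assoc, mul_inv_cancel_left] at h2
        rw [h2, gg]
  have hinv : ∀ {x : G}, x ∈ S → x⁻¹ ∈ S := by
    intro x hx
    have : ∀ k : ℕ, x ^ k ∈ S := fun k => by
      induction k with
      | zero => rw [pow_zero]; exact ⟨one_mem _, Or.inl rfl⟩
      | succ k ih => rw [pow_succ]; exact hmul ih hx
    have hpos : 0 < orderOf x := orderOf_pos x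
    have e : x⁻¹ = x ^ (orderOf x - 1) := inv_eq_of_mul_eq_one_left (by
      rw [← pow_succ, Nat.sub_add_cancel hpos, pow_orderOf_eq_one])
    rw [e]
    exact this _
  let P : Subgroup G :=
    { carrier := S
      one_mem' := ⟨one_mem _, Or.inl rfl⟩
      mul_mem' := hmul
      inv_mem' := hinv }
  refine ⟨P, fun x hx => hx.1, fun x => Iff.rfl, ?_⟩
  have hsP : w.stab ≤ P := fun x hx => ⟨(w.mem_stab_iff.1 hx).1, Or.inl (w.mem_stab_iff.1 hx).2⟩
  have hidx : (w.stab.subgroupOf P).index = 2 := by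
    rw [Subgroup.index_eq_two_iff]
    refine ⟨⟨g, hg, Or.inr rfl⟩, fun b => ?_⟩
    simp only [mem_subgroupOf, Subgroup.coe_mul]
    obtain ⟨hb, eb⟩ := b.2
    rcases eb with eb | eb
    · refine Or.inr ⟨w.mem_stab_iff.2 ⟨hb, eb⟩, fun h => hne ?_⟩
      have h2 := (w.mem_stab_iff.1 h).2
      rw [step hb eb] at h2
      exact h2
    · refine Or.inl ⟨w.mem_stab_iff.2 ⟨mul_mem hb hg, ?_⟩, fun h => hne ?_⟩
      · have := (hmul b.2 (show g ∈ S from ⟨hg, Or.inr rfl⟩)).2
        rcases this with h | h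
        · exact h
        · exfalso
          have hk : dd R V ((g : G)⁻¹ * b) = dd R V 1 := by
            rw [trans' (inv_mem hg) eb, inv_mul_cancel]
          have h1 := trans' hg (step (mul_mem (inv_mem hg) hb) hk)
          rw [← mul_assoc, mul_inv_cancel_left, gg] at h1
          exact hne (h.symm.trans h1)
      · rw [← eb]; exact (w.mem_stab_iff.1 h).2
  have := Subgroup.card_mul_index (w.stab.subgroupOf P)
  rw [hidx, Nat.card_congr (Subgroup.subgroupOfEquivOfLe hsP).toEquiv] at this
  show Nat.card P = _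
  omega

/-- If a Sylow 2-subgroup of `M` fixes `C_R(V)`, nothing moves. -/
theorem apart_of_sylow_le_stab {T : Sylow 2 G}
    (hT : (T : Subgroup G) ≤ w.stab) {g : G} (hg : g ∈ M) : Apart V g 1 := by
  by_contra a
  obtain ⟨P, -, -, hP⟩ := w.exists_pairStab hg a
  have h1 : 2 * Nat.card (T : Subgroup G) ∣ Nat.card G := by
    refine (Nat.mul_dvd_mul_left 2 (Subgroup.card_dvd_of_le hT)).trans ?_
    rw [← hP]
    exact Subgroup.card_subgroup_dvd_card P
  refine absurd h1 fun h => ?_
  have := T.card_eq_multiplicity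
  rw [this, ← pow_succ'] at h
  haveI := Fact.mk Nat.prime_two
  exact Nat.pow_succ_factorization_not_dvd Nat.card_pos.ne' Nat.prime_two h

end Tw

end Cfsg.Agent.QtkePush
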